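import Groth.Prelude.Def_ArtFun3
import Mathlib.RingTheory.HopkinsLevitzki

/-! Surjections of `Art Λ k` are composites of small extensions. -/

set_option autoImplicit false
universe u v
open CategoryTheory ArtFun ArtFun.Art

namespace K723.SmallExt

variable {Λ : Type u} {k : Type u} [CommRing Λ] [Field k] [Algebra Λ k]

/-- A bijective morphism of `Art Λ k` is an isomorphism. -/
theorem isIso_of_bijective {A B : Art Λ k} (f : A ⟶ B) (hf : Function.Bijective f) : IsIso f := by
  let e : A ≃ₐ[Λ] B := AlgEquiv.ofBijective f.toAlgHom hf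
  refine ⟨⟨e.symm.toAlgHom, ?_⟩, ?_, ?_⟩
  · apply AlgHom.ext
    intro b
    obtain ⟨a, rfl⟩ := hf.2 b
    change A.res (e.symm (f.toAlgHom a)) = B.res (f.toAlgHom a)
    rw [Art.res_app f a]
    congr 1
    exact e.symm_apply_apply a
  · apply hom_ext
    apply AlgHom.ext
    intro a
    exact e.symm_apply_apply a
  · apply hom_ext
    apply AlgHom.ext
    intro b
    exact e.apply_symm_apply b

theorem bijective_of_isIso {A B : Art Λ k} (f : A ⟶ B) [IsIso f] : Function.Bijective f := by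
  constructor
  · intro a b h
    have h1 : (inv f : B ⟶ A) (f a) = (inv f : B ⟶ A) (f b) := congrArg (inv f : B ⟶ A) h
    have h2 : ∀ a : A, (inv f : B ⟶ A) (f a) = a := fun a => by
      rw [← Art.comp_apply, IsIso.hom_inv_id]
      rfl
    rwa [h2, h2] at h1
  · intro b
    refine ⟨(inv f : B ⟶ A) b, ?_⟩
    rw [← Art.comp_apply, IsIso.inv_hom_id]
    rfl

theorem ker_le_maximalIdeal {A B : Art Λ k} (f : A ⟶ B) :
    RingHom.ker f.toAlgHom ≤ IsLocalRing.maximalIdeal A := by
  intro a ha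
  rw [mem_maximalIdeal_iff, ← res_app f]
  rw [RingHom.mem_ker] at ha
  rw [ha, map_zero]

lemma quotMk_eq_zero_iff (C : Art Λ k) (K : Ideal C) (hK : K ≤ IsLocalRing.maximalIdeal C) (a : C) :
    quotMk C K hK a = 0 ↔ a ∈ K := Ideal.Quotient.eq_zero_iff_mem

lemma quotMk_eq_iff (C : Art Λ k) (K : Ideal C) (hK : K ≤ IsLocalRing.maximalIdeal C) (a b : C) :
    quotMk C K hK a = quotMk C K hK b ↔ a - b ∈ K := Ideal.Quotient.eq

lemma ker_quotMk (C : Art Λ k) (K : Ideal C) (hK : K ≤ IsLocalRing.maximalIdeal C) :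
    RingHom.ker (quotMk C K hK).toAlgHom = K := by
  ext a
  rw [RingHom.mem_ker]
  exact quotMk_eq_zero_iff C K hK a

lemma quotFactor_quotMk {C D : Art Λ k} {K : Ideal C} (hK : K ≤ IsLocalRing.maximalIdeal C) (p : C ⟶ D)
    (hp : K ≤ RingHom.ker p.toAlgHom) (a : C) : quotFactor hK p hp (quotMk C K hK a) = p a := rfl

lemma mem_maximalIdeal_of_surjective_iff {A B : Art Λ k} (f : A ⟶ B) (a : A) :
    f a ∈ IsLocalRing.maximalIdeal B ↔ a ∈ IsLocalRing.maximalIdeal A := by
  rw [mem_maximalIdeal_iff, mem_maximalIdeal_iff, res_app]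

/-- Criterion for small extensions. -/
theorem isSmallExt_of_ker_eq_span {A B : Art Λ k} (p : B ⟶ A) (hp : Function.Surjective p) (t : B)
    (hker : RingHom.ker p.toAlgHom = Ideal.span {t}) (ht0 : t ≠ 0)
    (ht : ∀ a ∈ IsLocalRing.maximalIdeal B, a * t = 0) : IsSmallExt p := by
  refine ⟨hp, ?_, ?_, ?_⟩
  · rw [hker]
    intro h0
    exact ht0 (Ideal.span_singleton_eq_bot.1 h0)
  · rw [hker]
    exact ⟨⟨_, rfl⟩⟩
  · rw [hker, eq_bot_iff, Ideal.mul_le]
    intro a ha b hb
    obtain ⟨c, rfl⟩ := Ideal.mem_span_singleton'.1 hb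
    rw [Ideal.mem_bot, mul_left_comm, ht a ha, mul_zero]

/-- Map between quotients. -/
noncomputable def quotMap (C : Art Λ k) {K L : Ideal C} (hK : K ≤ IsLocalRing.maximalIdeal C)
    (hL : L ≤ IsLocalRing.maximalIdeal C) (h : K ≤ L) : quot C K hK ⟶ quot C L hL :=
  quotFactor hK (quotMk C L hL) (h.trans_eq (ker_quotMk C L hL).symm)

lemma quotMap_mk (C : Art Λ k) {K L : Ideal C} (hK : K ≤ IsLocalRing.maximalIdeal C)
    (hL : L ≤ IsLocalRing.maximalIdeal C) (h : K ≤ L) (a : C) :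
    quotMap C hK hL h (quotMk C K hK a) = quotMk C L hL a := rfl

lemma quotMap_surjective (C : Art Λ k) {K L : Ideal C} (hK : K ≤ IsLocalRing.maximalIdeal C)
    (hL : L ≤ IsLocalRing.maximalIdeal C) (h : K ≤ L) : Function.Surjective (quotMap C hK hL h) := by
  intro b
  obtain ⟨a, rfl⟩ := quotMk_surjective C L hL b
  exact ⟨quotMk C K hK a, rfl⟩

lemma quotMap_quotFactor {C D : Art Λ k} {K L : Ideal C} (hK : K ≤ IsLocalRing.maximalIdeal C)
    (hL : L ≤ IsLocalRing.maximalIdeal C) (h : K ≤ L) (p : C ⟶ D) (hpL : L ≤ RingHom.ker p.toAlgHom) :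
    quotMap C hK hL h ≫ quotFactor hL p hpL = quotFactor hK p (h.trans hpL) := by
  apply hom_ext
  apply AlgHom.ext
  intro b
  obtain ⟨a, rfl⟩ := quotMk_surjective C K hK b
  rfl

lemma quotFactor_surjective {C D : Art Λ k} {K : Ideal C} (hK : K ≤ IsLocalRing.maximalIdeal C) (p : C ⟶ D)
    (hp : K ≤ RingHom.ker p.toAlgHom) (hs : Function.Surjective p) :
    Function.Surjective (quotFactor hK p hp) := by
  intro d
  obtain ⟨c, rfl⟩ := hs d
  exact ⟨quotMk C K hK c, rfl⟩

/-- In a nonzero ideal `I` of `B` modulo `J < I`, there is an element outside `J` multiplied into `J` by the maximal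
ideal. -/
theorem exists_socle (B : Type u) [CommRing B] [IsLocalRing B] [IsArtinianRing B] {J I : Ideal B} (h : J < I) :
    ∃ t ∈ I, t ∉ J ∧ ∀ a ∈ IsLocalRing.maximalIdeal B, a * t ∈ J := by
  classical
  have hnil : IsNilpotent (IsLocalRing.maximalIdeal B) :=
    (isArtinianRing_iff_isNilpotent_maximalIdeal B).1 inferInstance
  obtain ⟨n, hn⟩ := hnil
  have hex : ∃ n, IsLocalRing.maximalIdeal B ^ n * I ≤ J :=
    ⟨n, by rw [hn, Ideal.zero_eq_bot, Ideal.bot_mul]; exact bot_le⟩
  have hm := Nat.find_spec hex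
  have hpos : Nat.find hex ≠ 0 := by
    intro h0
    rw [h0, pow_zero, Ideal.one_eq_top, Ideal.top_mul] at hm
    exact absurd hm (not_le_of_gt h)
  obtain ⟨m, hm'⟩ := Nat.exists_eq_succ_of_ne_zero hpos
  have hlt : ¬ IsLocalRing.maximalIdeal B ^ m * I ≤ J :=
    Nat.find_min hex (by rw [hm']; exact Nat.lt_succ_self m)
  obtain ⟨t, ht, htJ⟩ := Set.not_subset.1 hlt
  refine ⟨t, Ideal.mul_le_right ht, htJ, fun a ha => hm ?_⟩
  rw [hm', Nat.succ_eq_add_one, pow_succ', mul_assoc]
  exact Ideal.mul_mem_mul ha ht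

/-- The map `C/J → C/(J + (t))` is a small extension when `t ∉ J` and `m t ⊆ J`. -/
theorem isSmallExt_quotMap (C : Art Λ k) {J : Ideal C} (hJ : J ≤ IsLocalRing.maximalIdeal C) (t : C)
    (htJ : t ∉ J) (ht : ∀ a ∈ IsLocalRing.maximalIdeal C, a * t ∈ J)
    (hL : J ⊔ Ideal.span {t} ≤ IsLocalRing.maximalIdeal C) :
    IsSmallExt (quotMap C hJ hL le_sup_left) := by
  have hker : RingHom.ker (quotMap C hJ hL le_sup_left).toAlgHom = Ideal.span {quotMk C J hJ t} := by
    apply le_antisymm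
    · intro b hb
      obtain ⟨a, rfl⟩ := quotMk_surjective C J hJ b
      have h1 : quotMk C (J ⊔ Ideal.span {t}) hL a = 0 := RingHom.mem_ker.1 hb
      rw [quotMk_eq_zero_iff, Submodule.mem_sup] at h1
      obtain ⟨j, hj, y, hy, rfl⟩ := h1
      obtain ⟨c, rfl⟩ := Ideal.mem_span_singleton'.1 hy
      rw [Ideal.mem_span_singleton']
      refine ⟨quotMk C J hJ c, ?_⟩
      rw [map_add, (quotMk_eq_zero_iff C J hJ j).2 hj, zero_add, map_mul]
    · rw [Ideal.span_singleton_le_iff_mem, RingHom.mem_ker]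
      change quotMk C (J ⊔ Ideal.span {t}) hL t = 0
      rw [quotMk_eq_zero_iff]
      exact Ideal.mem_sup_right (Ideal.mem_span_singleton_self t)
  refine isSmallExt_of_ker_eq_span _ (quotMap_surjective C hJ hL le_sup_left) _ hker ?_ ?_
  · intro h0
    exact htJ ((quotMk_eq_zero_iff C J hJ t).1 h0)
  · intro a ha
    obtain ⟨a, rfl⟩ := quotMk_surjective C J hJ a
    rw [← map_mul, quotMk_eq_zero_iff]
    exact ht a ((mem_maximalIdeal_of_surjective_iff _ a).1 ha)

/-- Every surjective morphism of `Art Λ k` is a composite of small extensions (induction principle). -/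
theorem surjective_induction (P : ∀ ⦃A B : Art Λ k⦄, (B ⟶ A) → Prop)
    (hiso : ∀ ⦃A B : Art Λ k⦄ (e : B ⟶ A), IsIso e → P e)
    (hsmall : ∀ ⦃A B : Art Λ k⦄ (p : B ⟶ A), IsSmallExt p → P p)
    (hcomp : ∀ ⦃A B C : Art Λ k⦄ (p : C ⟶ B) (q : B ⟶ A), P p → P q → P (p ≫ q))
    ⦃A B : Art Λ k⦄ (f : B ⟶ A) (hf : Function.Surjective f) : P f := by
  have key : ∀ (J : Ideal B) (hJ : J ≤ RingHom.ker f.toAlgHom),
      P (quotFactor (hJ.trans (ker_le_maximalIdeal f)) f hJ) := by
    intro J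
    induction J using WellFoundedGT.induction with
    | ind J ih =>
      intro hJ
      rcases eq_or_lt_of_le hJ with h | h
      · apply hiso
        apply isIso_of_bijective
        refine ⟨?_, quotFactor_surjective _ f hJ hf⟩
        intro x y hxy
        obtain ⟨x, rfl⟩ := quotMk_surjective _ _ _ x
        obtain ⟨y, rfl⟩ := quotMk_surjective _ _ _ y
        rw [quotFactor_quotMk, quotFactor_quotMk] at hxy
        rw [quotMk_eq_iff, h, RingHom.mem_ker, map_sub, hxy, sub_self]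
      · obtain ⟨t, htI, htJ, ht⟩ := exists_socle B h
        have hL : J ⊔ Ideal.span {t} ≤ RingHom.ker f.toAlgHom :=
          sup_le hJ ((Ideal.span_singleton_le_iff_mem _).2 htI)
        have hlt : J < J ⊔ Ideal.span {t} := by
          refine lt_of_le_of_ne le_sup_left fun he => htJ ?_
          rw [he]
          exact Ideal.mem_sup_right (Ideal.mem_span_singleton_self t)
        rw [← quotMap_quotFactor (hJ.trans (ker_le_maximalIdeal f)) (hL.trans (ker_le_maximalIdeal f))
          le_sup_left f hL]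
        exact hcomp _ _ (hsmall _ (isSmallExt_quotMap B _ t htJ ht _)) (ih _ hlt hL)
  have h1 := key ⊥ bot_le
  rw [← quotMk_quotFactor (bot_le.trans (ker_le_maximalIdeal f)) f bot_le]
  refine hcomp _ _ (hiso _ (isIso_of_bijective _ ⟨?_, quotMk_surjective _ _ _⟩)) h1
  intro x y hxy
  rw [quotMk_eq_iff, Ideal.mem_bot, sub_eq_zero] at hxy
  exact hxy

end K723.SmallExt
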