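import Groth.Prelude.Def_ArtFun
import Mathlib.RingTheory.LocalRing.Length
import Mathlib.RingTheory.LocalRing.Pullback
import Mathlib.RingTheory.HopkinsLevitzki
import Groth.Agent.ArtFun.K723.SmallExt

/-! Lengths over `Λ` of modules over an Artinian local `Λ`-algebra with residue field `k`; fibre products in
`Art Λ k` when one leg is surjective. -/

set_option autoImplicit false
universe u v
open CategoryTheory ArtFun ArtFun.Art

namespace K723.Length

section Len

variable {Λ : Type u} {k : Type u} [CommRing Λ] [Field k] [Algebra Λ k]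
  (A : Type u) [CommRing A] [Algebra Λ A] [IsLocalRing A] [Algebra A k] [IsScalarTower Λ A k]
  (hres : Function.Surjective (algebraMap A k))
  {M : Type v} [AddCommGroup M] [Module A M] [Module Λ M] [IsScalarTower Λ A M]

include hres in
theorem covBy_length {p q : Submodule A M} (h : p ⋖ q) :
    Module.length Λ q = Module.length Λ p + Module.length Λ k := by
  let f : p →ₗ[A] q := Submodule.inclusion h.le
  have key : IsSimpleModule A (q ⧸ LinearMap.range f) := by
    rw [Submodule.range_inclusion, ← covBy_iff_quot_is_simple h.le]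
    exact h
  obtain ⟨m, hm, ⟨e⟩⟩ := isSimpleModule_iff_quot_maximal.mp key
  have hker : RingHom.ker (algebraMap A k) = m := by
    rw [IsLocalRing.eq_maximalIdeal hm]
    exact IsLocalRing.eq_maximalIdeal (RingHom.ker_isMaximal_of_surjective (algebraMap A k) hres)
  let e' : (A ⧸ LinearMap.ker (Algebra.linearMap A k)) ≃ₗ[A] k :=
    (Algebra.linearMap A k).quotKerEquivOfSurjective hres
  have hkk : m = LinearMap.ker (Algebra.linearMap A k) := by
    rw [← hker]
    rfl
  let e'' : (A ⧸ m) ≃ₗ[A] k := (Submodule.quotEquivOfEq _ _ hkk).trans e'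
  let g : q →ₗ[A] k := (e.trans e'').toLinearMap.comp (LinearMap.range f).mkQ
  have h1 : Function.Injective f := Submodule.inclusion_injective _
  have h2 : Function.Surjective g := (e.trans e'').surjective.comp (LinearMap.range f).mkQ_surjective
  have h3 : Function.Exact f g :=
    LinearMap.exact_iff.mpr (((e.trans e'').ker_comp (LinearMap.range f).mkQ).trans (LinearMap.range f).ker_mkQ)
  exact Module.length_eq_add_of_exact (f.restrictScalars Λ) (g.restrictScalars Λ) h1 h2 h3

include hres in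
theorem length_eq : Module.length Λ k * Module.length A M = Module.length Λ M := by
  symm
  by_cases h : IsFiniteLength A M
  · obtain ⟨s, hs_bot, hs_top⟩ := isFiniteLength_iff_exists_compositionSeries.mp h
    rw [← Module.length_compositionSeries s hs_bot hs_top]
    suffices ∀ i, Module.length Λ (s i) = Module.length Λ k * i by
      rw [← Fin.val_last s.length, ← this, ← RelSeries.last, hs_top]
      exact Module.length_top.symm
    intro i
    induction i using Fin.induction with
    | zero => rw [← RelSeries.head, hs_bot]; simp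
    | succ i hi =>
      rw [covBy_length (Λ := Λ) (k := k) A hres (s.step i), hi]
      simp [mul_add]
  · have h' : ¬ IsFiniteLength Λ M := by
      contrapose! h
      rw [isFiniteLength_iff_isNoetherian_isArtinian] at h ⊢
      exact h.imp (isNoetherian_of_tower Λ) (isArtinian_of_tower Λ)
    rw [← Module.length_ne_top_iff, not_ne_iff] at h h'
    have ne : Module.length Λ k ≠ 0 := by
      simpa [pos_iff_ne_zero] using Module.length_pos (R := Λ) (M := k)
    rw [h, h', ENat.mul_top ne]

end Len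

section Base

variable (Λ : Type u) (k : Type u) [CommRing Λ] [Field k] [Algebra Λ k] [IsNoetherianRing Λ] [Module.Finite Λ k]

theorem isArtinian_base : IsArtinian Λ k := by
  let p : Ideal Λ := RingHom.ker (algebraMap Λ k)
  letI : Algebra (Λ ⧸ p) k := (RingHom.kerLift (algebraMap Λ k)).toAlgebra
  haveI : IsScalarTower Λ (Λ ⧸ p) k := IsScalarTower.of_algebraMap_eq fun _ => rfl
  haveI : Module.Finite (Λ ⧸ p) k := Module.Finite.of_restrictScalars_finite Λ _ _
  have hinj : Function.Injective (algebraMap (Λ ⧸ p) k) := RingHom.kerLift_injective _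
  haveI : IsDomain (Λ ⧸ p) := hinj.isDomain _
  haveI : Algebra.IsIntegral (Λ ⧸ p) k := inferInstance
  have hF : IsField (Λ ⧸ p) := isField_of_isIntegral_of_isField hinj (Field.toIsField k)
  letI := hF.toField
  haveI : IsArtinian (Λ ⧸ p) k := inferInstance
  exact isArtinian_of_surjective_algebraMap (S := Λ) (R := Λ ⧸ p) (M := k) Ideal.Quotient.mk_surjective

/-- An object of `Art Λ k` has finite length over `Λ`. -/
theorem isFiniteLength (A : Art Λ k) : IsFiniteLength Λ A := by
  letI : Algebra A k := A.res.toRingHom.toAlgebra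
  haveI : IsScalarTower Λ A k := IsScalarTower.of_algebraMap_eq fun r => (A.res.commutes r).symm
  have h := length_eq (Λ := Λ) (k := k) A A.res_surjective (M := A)
  haveI := isArtinian_base Λ k
  have h1 : Module.length Λ k ≠ ⊤ := Module.length_ne_top
  have h2 : Module.length A A ≠ ⊤ := Module.length_ne_top
  rw [← Module.length_ne_top_iff, ← h]
  exact WithTop.mul_ne_top h1 h2

theorem isArtinian (A : Art Λ k) : IsArtinian Λ A :=
  (isFiniteLength_iff_isNoetherian_isArtinian.1 (isFiniteLength Λ k A)).2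

theorem isNoetherian (A : Art Λ k) : IsNoetherian Λ A :=
  (isFiniteLength_iff_isNoetherian_isArtinian.1 (isFiniteLength Λ k A)).1

theorem finite (A : Art Λ k) : Module.Finite Λ A :=
  haveI := isNoetherian Λ k A
  inferInstance

end Base

section FibProd

variable {Λ : Type u} {k : Type u} [CommRing Λ] [Field k] [Algebra Λ k] [IsNoetherianRing Λ] [Module.Finite Λ k]
variable {A A₁ A₂ : Art Λ k} (f₁ : A₁ ⟶ A) (f₂ : A₂ ⟶ A)

theorem isLocalRing_pullback : IsLocalRing (f₁.toAlgHom.pullback f₂.toAlgHom) :=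
  haveI := Art.isLocalHom f₂
  AlgHom.isLocalRing_pullback f₁.toAlgHom f₂.toAlgHom

theorem isArtinianRing_pullback : IsArtinianRing (f₁.toAlgHom.pullback f₂.toAlgHom) := by
  haveI := isArtinian Λ k A₁
  haveI := isArtinian Λ k A₂
  have h : IsArtinian Λ (f₁.toAlgHom.pullback f₂.toAlgHom) :=
    isArtinian_of_injective (f₁.toAlgHom.pullback f₂.toAlgHom).val.toLinearMap Subtype.val_injective
  exact isArtinian_of_tower Λ h

/-- The fibre product `A₁ ×_A A₂` as an object of `Art Λ k`, when its residue map to `k` is surjective. -/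
noncomputable def fibProdOfRes
    (hr : ∀ c : k, ∃ (a₁ : A₁) (a₂ : A₂), f₁ a₁ = f₂ a₂ ∧ A₁.res a₁ = c) : Art Λ k :=
  { carrier := f₁.toAlgHom.pullback f₂.toAlgHom
    isLocalRing := isLocalRing_pullback f₁ f₂
    isArtinianRing := isArtinianRing_pullback f₁ f₂
    res := A₁.res.comp (f₁.toAlgHom.pullbackFst f₂.toAlgHom)
    res_surjective := fun c => by
      obtain ⟨a₁, a₂, h, h'⟩ := hr c
      exact ⟨⟨(a₁, a₂), h⟩, h'⟩ }

variable (hr : ∀ c : k, ∃ (a₁ : A₁) (a₂ : A₂), f₁ a₁ = f₂ a₂ ∧ A₁.res a₁ = c)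

noncomputable def fibProdOfResFst : fibProdOfRes f₁ f₂ hr ⟶ A₁ := ⟨f₁.toAlgHom.pullbackFst f₂.toAlgHom, rfl⟩

noncomputable def fibProdOfResSnd : fibProdOfRes f₁ f₂ hr ⟶ A₂ :=
  ⟨f₁.toAlgHom.pullbackSnd f₂.toAlgHom, by
    apply AlgHom.ext
    rintro ⟨⟨a₁, a₂⟩, h⟩
    change A₂.res a₂ = A₁.res a₁
    have h' : f₁ a₁ = f₂ a₂ := h
    rw [← Art.res_app f₁ a₁, h', Art.res_app f₂ a₂]⟩

theorem isFibreProd_fibProdOfRes :
    IsFibreProd (fibProdOfResFst f₁ f₂ hr) (fibProdOfResSnd f₁ f₂ hr) f₁ f₂ where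
  w := by
    apply hom_ext
    apply AlgHom.ext
    rintro ⟨⟨a₁, a₂⟩, h⟩
    exact h
  inj := by
    rintro ⟨⟨a₁, a₂⟩, h⟩ ⟨⟨b₁, b₂⟩, h'⟩ e₁ e₂
    have e₁' : a₁ = b₁ := e₁
    have e₂' : a₂ = b₂ := e₂
    subst e₁' e₂'
    rfl
  surj := fun a' a'' h => ⟨⟨(a', a''), h⟩, rfl, rfl⟩

theorem res_of_surjective (hf₂ : Function.Surjective f₂) (c : k) :
    ∃ (a₁ : A₁) (a₂ : A₂), f₁ a₁ = f₂ a₂ ∧ A₁.res a₁ = c := by
  obtain ⟨a₁, ha₁⟩ := A₁.res_surjective c
  obtain ⟨a₂, ha₂⟩ := hf₂ (f₁ a₁)
  exact ⟨a₁, a₂, ha₂.symm, ha₁⟩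

/-- Fibre products exist when one leg is surjective. -/
theorem exists_isFibreProd (hf₂ : Function.Surjective f₂) :
    ∃ (B : Art Λ k) (p₁ : B ⟶ A₁) (p₂ : B ⟶ A₂), IsFibreProd p₁ p₂ f₁ f₂ :=
  ⟨_, _, _, isFibreProd_fibProdOfRes f₁ f₂ (res_of_surjective f₁ f₂ hf₂)⟩

end FibProd

end K723.Length
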