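import Groth.Prelude.Def_ArtFun3
import Mathlib.LinearAlgebra.Contraction
import Mathlib.RingTheory.HopkinsLevitzki
import Groth.Agent.ArtFun.K723.SmallExt
import Groth.Agent.ArtFun.K723.Length

/-! The conormal obstruction theory of `h_R` for `R = P/J`, `P` an augmented algebra with `h_P` smooth and `J` contained
in the square of the augmentation ideal. -/

set_option autoImplicit false
universe u v
open CategoryTheory ArtFun ArtFun.Art
open scoped TensorProduct

namespace K723.Conormal

section General

variable {k : Type u} [Field k] {P : Type u} [CommRing P] [Algebra k P] {resP : P →ₐ[k] k}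

/-- An element of the augmentation ideal of `P` goes to the maximal ideal. -/
theorem map_mem {B : Art k k} (f : HomSet P resP B) {x : P} (hx : x ∈ RingHom.ker resP) :
    f.1 x ∈ IsLocalRing.maximalIdeal B := by
  rw [mem_maximalIdeal_iff]
  have h : B.res (f.1 x) = resP x := DFunLike.congr_fun f.2 x
  rw [h]
  exact hx

theorem mul_eq_zero_of_semismall {B C : Art k k} {p : B ⟶ C} (hp : IsSemismallExt p) {a b : B}
    (ha : a ∈ IsLocalRing.maximalIdeal B) (hb : b ∈ RingHom.ker p.toAlgHom) : a * b = 0 := by
  have h := Ideal.mul_mem_mul ha hb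
  rw [hp.2] at h
  exact h

/-- Two lifts along a semismall extension agree on the square of the augmentation ideal. -/
theorem eq_on_sq {B C : Art k k} (p : B ⟶ C) (hp : IsSemismallExt p) (f g : HomSet P resP B)
    (hfg : HomSet.map p f = HomSet.map p g) {x : P} (hx : x ∈ RingHom.ker resP ^ 2) : f.1 x = g.1 x := by
  have hd : ∀ x : P, f.1 x - g.1 x ∈ RingHom.ker p.toAlgHom := by
    intro x
    rw [RingHom.mem_ker, map_sub, sub_eq_zero]
    exact DFunLike.congr_fun (congrArg Subtype.val hfg) x
  rw [pow_two] at hx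
  refine Submodule.mul_induction_on hx ?_ ?_
  · intro a ha b hb
    have h1 : f.1 a * (f.1 b - g.1 b) = 0 := mul_eq_zero_of_semismall hp (map_mem f ha) (hd b)
    have h2 : g.1 b * (f.1 a - g.1 a) = 0 := mul_eq_zero_of_semismall hp (map_mem g hb) (hd a)
    rw [map_mul, map_mul]
    linear_combination h1 + h2
  · intro a b ha hb
    rw [map_add, map_add, ha, hb]

end General

section Obs

variable {k : Type u} [Field k] {P : Type u} [CommRing P] [Algebra k P]
  (J : Ideal P) (res : (P ⧸ J) →ₐ[k] k) (n : Ideal P)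

/-- The augmentation of `P` induced by that of `P/J`. -/
noncomputable abbrev resP : P →ₐ[k] k := res.comp (Ideal.Quotient.mkₐ k J)

/-- The element of `h_P(C)` underlying an element of `h_{P/J}(C)`. -/
noncomputable def up {C : Art k k} (u : HomSet (P ⧸ J) res C) : HomSet P (resP J res) C :=
  ⟨u.1.comp (Ideal.Quotient.mkₐ k J), by rw [← AlgHom.comp_assoc, u.2]⟩

theorem up_map {C D : Art k k} (f : C ⟶ D) (u : HomSet (P ⧸ J) res C) :
    up J res (HomSet.map f u) = HomSet.map f (up J res u) := rfl

variable {J res}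

theorem exists_down {C : Art k k} (v : HomSet P (resP J res) C) (hv : ∀ j ∈ J, v.1 j = 0) :
    ∃ u : HomSet (P ⧸ J) res C, up J res u = v := by
  refine ⟨⟨Ideal.Quotient.liftₐ J v.1 hv, ?_⟩, ?_⟩
  · apply AlgHom.ext
    intro x
    obtain ⟨a, rfl⟩ := Ideal.Quotient.mk_surjective x
    exact DFunLike.congr_fun v.2 a
  · exact Subtype.ext (AlgHom.ext fun _ => rfl)

theorem up_injective {C : Art k k} : Function.Injective (up J res : HomSet (P ⧸ J) res C → _) := by
  intro a b h
  refine Subtype.ext (AlgHom.ext fun x => ?_)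
  obtain ⟨a, rfl⟩ := Ideal.Quotient.mk_surjective x
  exact DFunLike.congr_fun (congrArg Subtype.val h) a

variable {C' C : Art k k} (p : C' ⟶ C)

/-- The restriction to `J` of a lift of `P → C` to `C'`, with values in the kernel. -/
noncomputable def obJ (u : HomSet (P ⧸ J) res C) (v : HomSet P (resP J res) C')
    (huv : HomSet.map p v = up J res u) : J →ₗ[k] ↥(RingHom.ker p.toAlgHom) where
  toFun j := ⟨v.1 j, by
    rw [RingHom.mem_ker]
    have h : p (v.1 j) = u.1 (Ideal.Quotient.mk J j) := DFunLike.congr_fun (congrArg Subtype.val huv) (j : P)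
    rw [Ideal.Quotient.eq_zero_iff_mem.2 j.2, map_zero] at h
    exact h⟩
  map_add' a b := Subtype.ext (map_add v.1 (a : P) (b : P))
  map_smul' c a := Subtype.ext (map_smul v.1 c (a : P))

theorem obJ_apply (u : HomSet (P ⧸ J) res C) (v : HomSet P (resP J res) C')
    (huv : HomSet.map p v = up J res u) (j : J) : (obJ p u v huv j : C') = v.1 j := rfl

theorem obJ_eq (hp : IsSemismallExt p) (hJ : J ≤ RingHom.ker (resP J res) ^ 2)
    (u : HomSet (P ⧸ J) res C) (v w : HomSet P (resP J res) C')
    (hv : HomSet.map p v = up J res u) (hw : HomSet.map p w = up J res u) :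
    obJ p u v hv = obJ p u w hw := by
  ext j
  exact eq_on_sq p hp v w (hv.trans hw.symm) (hJ j.2)

theorem obJ_mem_smul (hp : IsSemismallExt p) (hn : n ≤ RingHom.ker (resP J res))
    (u : HomSet (P ⧸ J) res C) (v : HomSet P (resP J res) C') (huv : HomSet.map p v = up J res u) :
    (n • (⊤ : Submodule P J)).restrictScalars k ≤ LinearMap.ker (obJ p u v huv) := by
  intro x hx
  rw [Submodule.restrictScalars_mem] at hx
  refine Submodule.smul_induction_on hx ?_ ?_
  · intro a ha y _
    rw [LinearMap.mem_ker]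
    apply Subtype.ext
    change v.1 (a * (y : P)) = 0
    rw [map_mul]
    exact mul_eq_zero_of_semismall hp (map_mem v (hn ha)) (obJ p u v huv y).2
  · intro x y hx hy
    exact Submodule.add_mem _ hx hy

/-- The obstruction map `J/nJ → ker p`. -/
noncomputable def ob (hp : IsSemismallExt p) (hn : n ≤ RingHom.ker (resP J res))
    (u : HomSet (P ⧸ J) res C) (v : HomSet P (resP J res) C') (huv : HomSet.map p v = up J res u) :
    (J ⧸ (n • (⊤ : Submodule P J))) →ₗ[k] ↥(RingHom.ker p.toAlgHom) :=
  (((n • (⊤ : Submodule P J)).restrictScalars k).liftQ (obJ p u v huv) (obJ_mem_smul n p hp hn u v huv)).comp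
    (Submodule.Quotient.restrictScalarsEquiv k (n • (⊤ : Submodule P J))).symm.toLinearMap

theorem ob_mk (hp : IsSemismallExt p) (hn : n ≤ RingHom.ker (resP J res))
    (u : HomSet (P ⧸ J) res C) (v : HomSet P (resP J res) C') (huv : HomSet.map p v = up J res u) (j : J) :
    (ob n p hp hn u v huv (Submodule.Quotient.mk j) : C') = v.1 j := rfl

theorem ob_eq (hp : IsSemismallExt p) (hn : n ≤ RingHom.ker (resP J res))
    (hJ : J ≤ RingHom.ker (resP J res) ^ 2)
    (u : HomSet (P ⧸ J) res C) (v w : HomSet P (resP J res) C')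
    (hv : HomSet.map p v = up J res u) (hw : HomSet.map p w = up J res u) :
    ob n p hp hn u v hv = ob n p hp hn u w hw := by
  refine LinearMap.ext fun j => Subtype.ext ?_
  obtain ⟨j, rfl⟩ := Submodule.Quotient.mk_surjective _ j
  rw [ob_mk, ob_mk]
  exact eq_on_sq p hp v w (hv.trans hw.symm) (hJ j.2)

/-- Naturality of the obstruction map for dividing the kernel by an ideal. -/
theorem ob_quot (hp : IsSemismallExt p) (hn : n ≤ RingHom.ker (resP J res)) (K : Ideal C')
    (hK : K ≤ IsLocalRing.maximalIdeal C') (hKJ : K ≤ RingHom.ker p.toAlgHom)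
    (hq : IsSemismallExt (quotFactor hK p hKJ))
    (u : HomSet (P ⧸ J) res C) (v : HomSet P (resP J res) C') (huv : HomSet.map p v = up J res u)
    (huv' : HomSet.map (quotFactor hK p hKJ) (HomSet.map (quotMk C' K hK) v) = up J res u) :
    ob n (quotFactor hK p hKJ) hq hn u (HomSet.map (quotMk C' K hK) v) huv' =
      ((kerToQuot hK p hKJ).restrictScalars k).comp (ob n p hp hn u v huv) := by
  refine LinearMap.ext fun j => Subtype.ext ?_
  obtain ⟨j, rfl⟩ := Submodule.Quotient.mk_surjective _ j
  rfl

variable (J res) in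
/-- The conormal obstruction theory. -/
theorem hasObsTheory (hn : n ≤ RingHom.ker (resP J res)) (hJ : J ≤ RingHom.ker (resP J res) ^ 2)
    (hP : IsSmoothFunctor (hR P (resP J res))) :
    HasObsTheory (hR (P ⧸ J) res) (Module.Dual k (J ⧸ (n • (⊤ : Submodule P J)))) := by
  classical
  have hlift : ∀ {C' C : Art k k} (p : C' ⟶ C), IsSemismallExt p → ∀ u : HomSet (P ⧸ J) res C,
      ∃ v : HomSet P (resP J res) C', HomSet.map p v = up J res u := fun p hp u => hP p hp.1 (up J res u)
  choose v hv using @hlift
  have hfin : ∀ {C' C : Art k k} (p : C' ⟶ C), Module.Finite k ↥(RingHom.ker p.toAlgHom) := by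
    intro C' C p
    haveI := K723.Length.finite k k C'
    exact Module.Finite.of_injective ((Submodule.subtype (RingHom.ker p.toAlgHom)).restrictScalars k)
      Subtype.val_injective
  have hbij : ∀ {C' C : Art k k} (p : C' ⟶ C), Function.Bijective
      (dualTensorHom k (J ⧸ (n • (⊤ : Submodule P J))) ↥(RingHom.ker p.toAlgHom)) := by
    intro C' C p
    haveI := hfin p
    exact dualTensorHom_bijective_of_finite_projective_right
  let E : ∀ {C' C : Art k k} (p : C' ⟶ C), (Module.Dual k (J ⧸ (n • (⊤ : Submodule P J))) ⊗[k]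
      ↥(RingHom.ker p.toAlgHom)) ≃ₗ[k] ((J ⧸ (n • (⊤ : Submodule P J))) →ₗ[k] ↥(RingHom.ker p.toAlgHom)) :=
    fun p => LinearEquiv.ofBijective _ (hbij p)
  refine ⟨⟨fun p hp u => (E p).symm (ob n p hp hn u (v p hp u) (hv p hp u)), ?_, ?_⟩⟩
  · intro C' C p hp u
    rw [LinearEquiv.map_eq_zero_iff]
    constructor
    · intro h0
      have h1 : ∀ j ∈ J, (v p hp u).1 j = 0 := by
        intro j hj
        have h2 := congrArg Subtype.val (DFunLike.congr_fun h0 (Submodule.Quotient.mk ⟨j, hj⟩))
        rw [ob_mk] at h2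
        exact h2
      obtain ⟨w, hw⟩ := exists_down (v p hp u) h1
      refine ⟨w, up_injective ?_⟩
      change up J res (HomSet.map p w) = up J res u
      rw [up_map, hw, hv]
    · rintro ⟨w, hw⟩
      have hw' : HomSet.map p (up J res w) = up J res u := by
        rw [← up_map]
        exact congrArg (up J res) hw
      rw [ob_eq n p hp hn hJ u _ (up J res w) (hv p hp u) hw']
      refine LinearMap.ext fun j => Subtype.ext ?_
      obtain ⟨j, rfl⟩ := Submodule.Quotient.mk_surjective _ j
      rw [ob_mk]
      change w.1 (Ideal.Quotient.mk J j) = 0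
      rw [Ideal.Quotient.eq_zero_iff_mem.2 j.2, map_zero]
  · intro C' C p hp K hK hKJ hq u
    rw [LinearEquiv.symm_apply_eq]
    have huv' : HomSet.map (quotFactor hK p hKJ) (HomSet.map (quotMk C' K hK) (v p hp u)) = up J res u := by
      rw [← hv p hp u]
      rfl
    rw [ob_eq n (quotFactor hK p hKJ) hq hn hJ u _ _ (hv (quotFactor hK p hKJ) hq u) huv',
      ob_quot n p hp hn K hK hKJ hq u (v p hp u) (hv p hp u) huv']
    have h1 := LinearMap.congr_fun (dualTensorHom_comp_lTensor (R := k)
      (M := J ⧸ (n • (⊤ : Submodule P J))) ((kerToQuot hK p hKJ).restrictScalars k))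
      ((E p).symm (ob n p hp hn u (v p hp u) (hv p hp u)))
    refine Eq.trans ?_ h1.symm
    change _ = ((kerToQuot hK p hKJ).restrictScalars k).comp ((E p) _)
    rw [LinearEquiv.apply_symm_apply]

end Obs

end K723.Conormal
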