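import Groth.Prelude.Def_ArtFun3
import Mathlib.LinearAlgebra.TensorProduct.Tower
import Mathlib.RingTheory.Flat.Basic
import Mathlib.RingTheory.Flat.Stability
import Mathlib.LinearAlgebra.Basis.VectorSpace

/-! Transport of obstruction theories. -/

set_option autoImplicit false
universe u v w
open CategoryTheory ArtFun ArtFun.Art
open scoped TensorProduct

namespace K723.Transport

variable {k : Type u} [Field k] {V V' : Type u} [AddCommGroup V] [Module k V] [AddCommGroup V'] [Module k V']

/-- Transport along natural bijections `G(A) ≃ F(A)` (the functors may have values in different universes). -/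
theorem hasObsTheory_of_equiv {F : Art k k ⥤ Type v} {G : Art k k ⥤ Type w} (e : ∀ A, G.obj A ≃ F.obj A)
    (he : ∀ (A B : Art k k) (f : A ⟶ B) (x : G.obj A), e B (G.map f x) = F.map f (e A x))
    (T : ObsTheory F V) : HasObsTheory G V := by
  refine ⟨⟨fun {C' C} p hp u => T.obs p hp (e C u), ?_, ?_⟩⟩
  · intro C' C p hp u
    rw [T.obs_eq_zero_iff]
    constructor
    · rintro ⟨y, hy⟩
      refine ⟨(e C').symm y, (e C).injective ?_⟩
      rw [he, Equiv.apply_symm_apply, hy]
    · rintro ⟨u', rfl⟩
      exact ⟨e C' u', (he _ _ _ _).symm⟩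
  · intro C' C p hp K hK hKJ hq u
    exact T.obs_quot p hp K hK hKJ hq _

/-- Transport along an isomorphism of obstruction spaces. -/
theorem hasObsTheory_of_linearEquiv {F : Art k k ⥤ Type v} (e : V ≃ₗ[k] V') (T : ObsTheory F V) :
    HasObsTheory F V' := by
  refine ⟨⟨fun {C' C} p hp u => LinearEquiv.rTensor _ e (T.obs p hp u), ?_, ?_⟩⟩
  · intro C' C p hp u
    rw [LinearEquiv.map_eq_zero_iff, T.obs_eq_zero_iff]
  · intro C' C p hp K hK hKJ hq u
    rw [T.obs_quot p hp K hK hKJ hq u]
    change (LinearMap.rTensor _ e.toLinearMap) (LinearMap.lTensor V _ (T.obs p hp u)) =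
      LinearMap.lTensor V' _ ((LinearMap.rTensor _ e.toLinearMap) (T.obs p hp u))
    rw [← LinearMap.comp_apply, ← LinearMap.comp_apply, LinearMap.rTensor_comp_lTensor,
      LinearMap.lTensor_comp_rTensor]

/-- Pull back an obstruction theory along an injective linear map is possible only when the obstructions lie in the
image; push forward along an injective map always is. -/
theorem hasObsTheory_of_injective {F : Art k k ⥤ Type v} (e : V →ₗ[k] V') (he : Function.Injective e)
    (T : ObsTheory F V) : HasObsTheory F V' := by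
  refine ⟨⟨fun {C' C} p hp u => LinearMap.rTensor _ e (T.obs p hp u), ?_, ?_⟩⟩
  · intro C' C p hp u
    rw [← T.obs_eq_zero_iff p hp u, ← map_zero (LinearMap.rTensor _ e)]
    exact (Module.Flat.rTensor_preserves_injective_linearMap (M := ↥(RingHom.ker p.toAlgHom)) e he).eq_iff
  · intro C' C p hp K hK hKJ hq u
    rw [T.obs_quot p hp K hK hKJ hq u, ← LinearMap.comp_apply, ← LinearMap.comp_apply,
      LinearMap.rTensor_comp_lTensor, LinearMap.lTensor_comp_rTensor]

/-- Natural bijections `h_R(A) ≃ h_{R'}(A)` from an isomorphism of augmented algebras. -/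
noncomputable def homSetEquiv {R R' : Type u} [CommRing R] [Algebra k R] {resR : R →ₐ[k] k} [CommRing R'] [Algebra k R']
    {resR' : R' →ₐ[k] k} (e : R ≃ₐ[k] R') (he : resR'.comp e.toAlgHom = resR) (A : Art k k) :
    HomSet R resR A ≃ HomSet R' resR' A where
  toFun φ := ⟨φ.1.comp e.symm.toAlgHom, by
    rw [← AlgHom.comp_assoc, φ.2, ← he, AlgHom.comp_assoc]
    apply AlgHom.ext
    intro x
    change resR' (e (e.symm x)) = resR' x
    rw [AlgEquiv.apply_symm_apply]⟩
  invFun φ := ⟨φ.1.comp e.toAlgHom, by rw [← AlgHom.comp_assoc, φ.2, ← he]⟩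
  left_inv φ := Subtype.ext (AlgHom.ext fun x => by
    change φ.1 (e.symm (e x)) = φ.1 x
    rw [AlgEquiv.symm_apply_apply])
  right_inv φ := Subtype.ext (AlgHom.ext fun x => by
    change φ.1 (e (e.symm x)) = φ.1 x
    rw [AlgEquiv.apply_symm_apply])

theorem hasObsTheory_hR_of_algEquiv {R R' : Type u} [CommRing R] [Algebra k R] {resR : R →ₐ[k] k} [CommRing R']
    [Algebra k R'] {resR' : R' →ₐ[k] k} (e : R ≃ₐ[k] R') (he : resR'.comp e.toAlgHom = resR)
    (T : ObsTheory (hR R' resR') V) : HasObsTheory (hR R resR) V :=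
  hasObsTheory_of_equiv (F := hR R' resR') (G := hR R resR) (fun A => homSetEquiv e he A) (fun _ _ _ _ => rfl) T

/-- A pro-represented functor has the obstruction theory of its coefficient ring. -/
theorem hasObsTheory_of_isUniversal {F : Art k k ⥤ Type v} {R : Type u} [CommRing R] [Algebra k R]
    {resR : R →ₐ[k] k} (ξ : Family R resR F) (hξ : IsUniversal ξ) (T : ObsTheory (hR R resR) V) :
    HasObsTheory F V := by
  refine hasObsTheory_of_equiv (F := hR R resR) (G := F)
    (fun A => (Equiv.ofBijective (ξ.app A) (hξ A)).symm) ?_ T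
  intro A B f x
  obtain ⟨φ, rfl⟩ := (hξ A).2 x
  rw [← ξ.natural]
  have h1 : ∀ (C : Art k k) (ψ : HomSet R resR C),
      (Equiv.ofBijective (ξ.app C) (hξ C)).symm (ξ.app C ψ) = ψ :=
    fun C ψ => (Equiv.ofBijective (ξ.app C) (hξ C)).symm_apply_apply ψ
  exact (h1 B _).trans (congrArg (HomSet.map f) (h1 A φ)).symm

end K723.Transport
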