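import Groth.Prelude.Def_ArtFun3
import Groth.Agent.ArtFun.K723.Conormal
import Groth.Agent.ArtFun.K723.Transport
import Mathlib.RingTheory.Filtration
import Mathlib.RingTheory.Nakayama
import Mathlib.RingTheory.Ideal.Quotient.Noetherian
import Mathlib.LinearAlgebra.Dual.Lemmas

/-! An obstruction theory of `h_{P/J}`, `J` in the square of the maximal ideal, bounds the number of generators of `J`. -/

set_option autoImplicit false
universe u v w
open CategoryTheory ArtFun ArtFun.Art
open scoped TensorProduct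

namespace K723.Bound

variable {k : Type u} [Field k]

theorem quotFactor_semismall {B C : Art k k} {p : B ⟶ C} (hp : IsSemismallExt p) {K : Ideal B}
    (hK : K ≤ IsLocalRing.maximalIdeal B) (hKJ : K ≤ RingHom.ker p.toAlgHom) :
    IsSemismallExt (quotFactor hK p hKJ) := by
  refine ⟨K723.SmallExt.quotFactor_surjective hK p hKJ hp.1, ?_⟩
  rw [eq_bot_iff, Ideal.mul_le]
  intro a ha b hb
  obtain ⟨a, rfl⟩ := quotMk_surjective B K hK a
  obtain ⟨b, rfl⟩ := quotMk_surjective B K hK b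
  have ha' : a ∈ IsLocalRing.maximalIdeal B := (K723.SmallExt.mem_maximalIdeal_of_surjective_iff _ a).1 ha
  have hb' : b ∈ RingHom.ker p.toAlgHom := hb
  rw [Ideal.mem_bot, ← map_mul, K723.Conormal.mul_eq_zero_of_semismall hp ha' hb', map_zero]

/-- The kernel of a functional on the kernel of a semismall extension is an ideal. -/
def kerIdeal {B C : Art k k} {p : B ⟶ C} (hp : IsSemismallExt p) (l : ↥(RingHom.ker p.toAlgHom) →ₗ[k] k) :
    Ideal B where
  carrier := {x | ∃ hx : x ∈ RingHom.ker p.toAlgHom, l ⟨x, hx⟩ = 0}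
  add_mem' := by
    rintro a b ⟨ha, ha'⟩ ⟨hb, hb'⟩
    refine ⟨Ideal.add_mem _ ha hb, ?_⟩
    have : (⟨a + b, Ideal.add_mem _ ha hb⟩ : ↥(RingHom.ker p.toAlgHom)) = ⟨a, ha⟩ + ⟨b, hb⟩ := rfl
    rw [this, map_add, ha', hb', add_zero]
  zero_mem' := ⟨Ideal.zero_mem _, by
    have : (⟨0, Ideal.zero_mem _⟩ : ↥(RingHom.ker p.toAlgHom)) = 0 := rfl
    rw [this, map_zero]⟩
  smul_mem' := by
    rintro c a ⟨ha, ha'⟩
    refine ⟨Ideal.mul_mem_left _ _ ha, ?_⟩
    have hc : c - algebraMap k B (B.res c) ∈ IsLocalRing.maximalIdeal B := by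
      rw [mem_maximalIdeal_iff, map_sub, AlgHom.commutes]
      exact sub_self _
    have h0 := K723.Conormal.mul_eq_zero_of_semismall hp hc ha
    rw [sub_mul, sub_eq_zero] at h0
    have : (⟨c • a, Ideal.mul_mem_left _ _ ha⟩ : ↥(RingHom.ker p.toAlgHom)) = B.res c • ⟨a, ha⟩ := by
      apply Subtype.ext
      change c * a = B.res c • a
      rw [h0, Algebra.smul_def]
    rw [this, map_smul, ha', smul_zero]

theorem kerIdeal_le {B C : Art k k} {p : B ⟶ C} (hp : IsSemismallExt p) (l : ↥(RingHom.ker p.toAlgHom) →ₗ[k] k) :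
    kerIdeal hp l ≤ RingHom.ker p.toAlgHom := fun _ hx => hx.1

variable {W : Type u} [AddCommGroup W] [Module k W]

/-- If the functional `l` kills the obstruction, the object lifts to the quotient by the kernel of `l`. -/
theorem exists_lift_of_lTensor_eq_zero {F : Art k k ⥤ Type v} (T : ObsTheory F W) {B C : Art k k} {p : B ⟶ C}
    (hp : IsSemismallExt p) (u : F.obj C) (l : ↥(RingHom.ker p.toAlgHom) →ₗ[k] k)
    (hl : LinearMap.lTensor W l (T.obs p hp u) = 0) :
    ∃ y : F.obj (quot B (kerIdeal hp l) ((kerIdeal_le hp l).trans (K723.SmallExt.ker_le_maximalIdeal p))),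
      F.map (quotFactor ((kerIdeal_le hp l).trans (K723.SmallExt.ker_le_maximalIdeal p)) p (kerIdeal_le hp l)) y
        = u := by
  set hK := (kerIdeal_le hp l).trans (K723.SmallExt.ker_le_maximalIdeal p)
  set hKJ := kerIdeal_le hp l
  have hq := quotFactor_semismall hp hK hKJ
  rw [← T.obs_eq_zero_iff _ hq, T.obs_quot p hp _ hK hKJ hq]
  let κ : ↥(RingHom.ker p.toAlgHom) →ₗ[k] ↥(RingHom.ker (quotFactor hK p hKJ).toAlgHom) :=
    (kerToQuot hK p hKJ).restrictScalars k
  have hκ : Function.Surjective κ := by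
    rintro ⟨y, hy⟩
    obtain ⟨b, rfl⟩ := quotMk_surjective B _ hK y
    exact ⟨⟨b, hy⟩, rfl⟩
  have hκ0 : ∀ x, κ x = 0 ↔ l x = 0 := by
    intro x
    have h1 : κ x = 0 ↔ quotMk B _ hK (x : B) = 0 := Subtype.ext_iff
    rw [h1, K723.SmallExt.quotMk_eq_zero_iff]
    exact ⟨fun h => h.2, fun h => ⟨x.2, h⟩⟩
  obtain ⟨s, hs⟩ := κ.exists_rightInverse_of_surjective (LinearMap.range_eq_top.2 hκ)
  have hs' : ∀ y, κ (s y) = y := fun y => LinearMap.congr_fun hs y
  let l' := l.comp s
  have hl' : l'.comp κ = l := by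
    refine LinearMap.ext fun x => ?_
    have h1 : l (s (κ x) - x) = 0 := by
      rw [← hκ0, map_sub, hs', sub_self]
    rw [map_sub, sub_eq_zero] at h1
    exact h1
  have hinj : Function.Injective l' := by
    rw [injective_iff_map_eq_zero]
    intro y hy
    have : κ (s y) = 0 := (hκ0 _).2 hy
    rwa [hs'] at this
  have h2 : LinearMap.lTensor W l' (LinearMap.lTensor W κ (T.obs p hp u)) = 0 := by
    rw [← LinearMap.comp_apply, ← LinearMap.lTensor_comp, hl', hl]
  have h3 := Module.Flat.lTensor_preserves_injective_linearMap (M := W) l' hinj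
  exact h3 (h2.trans (map_zero _).symm)

section Main

variable {P : Type u} [CommRing P] [Algebra k P] [IsLocalRing P] [IsNoetherianRing P]

omit [IsNoetherianRing P] in
theorem ker_eq (resP : P →ₐ[k] k) : RingHom.ker resP = IsLocalRing.maximalIdeal P :=
  IsLocalRing.eq_maximalIdeal (RingHom.ker_isMaximal_of_surjective (resP : P →+* k)
      (fun c => ⟨algebraMap k P c, resP.commutes c⟩))

/-- The quotient of `P` by an ideal containing a power of the maximal ideal, as an object. -/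
noncomputable def artOf (resP : P →ₐ[k] k) (I : Ideal P) (hI : I ≤ IsLocalRing.maximalIdeal P)
    (hN : ∃ m, IsLocalRing.maximalIdeal P ^ m ≤ I) : Art k k :=
  haveI : Nontrivial (P ⧸ I) := Ideal.Quotient.nontrivial_iff.2 (fun h =>
    (IsLocalRing.maximalIdeal.isMaximal P).ne_top (top_le_iff.1 (h ▸ hI)))
  haveI : IsLocalRing (P ⧸ I) := IsLocalRing.of_surjective' (Ideal.Quotient.mk I) Ideal.Quotient.mk_surjective
  { carrier := P ⧸ I
    isArtinianRing := by
      rw [isArtinianRing_iff_isNilpotent_maximalIdeal]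
      obtain ⟨m, hm⟩ := hN
      refine ⟨m, ?_⟩
      have h1 : IsLocalRing.maximalIdeal (P ⧸ I) ≤ (IsLocalRing.maximalIdeal P).map (Ideal.Quotient.mk I) := by
        intro x hx
        obtain ⟨a, rfl⟩ := Ideal.Quotient.mk_surjective x
        have ha : a ∈ IsLocalRing.maximalIdeal P := by
          rw [IsLocalRing.mem_maximalIdeal] at hx ⊢
          exact fun hu => hx (hu.map (Ideal.Quotient.mk I))
        exact Ideal.mem_map_of_mem _ ha
      rw [Ideal.zero_eq_bot, ← le_bot_iff]
      refine (Ideal.pow_right_mono h1 m).trans ?_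
      rw [← Ideal.map_pow]
      refine (Ideal.map_mono hm).trans ?_
      rw [Ideal.map_quotient_self]
    res := Ideal.Quotient.liftₐ I resP (fun a ha => by
      have : a ∈ RingHom.ker resP := by rw [ker_eq]; exact hI ha
      exact this)
    res_surjective := fun c => ⟨Ideal.Quotient.mk I (algebraMap k P c), resP.commutes c⟩ }

/-- The projection. -/
noncomputable def artOfHom (resP : P →ₐ[k] k) (I : Ideal P) (hI : I ≤ IsLocalRing.maximalIdeal P)
    (hN : ∃ m, IsLocalRing.maximalIdeal P ^ m ≤ I) : HomSet P resP (artOf resP I hI hN) :=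
  ⟨Ideal.Quotient.mkₐ k I, AlgHom.ext fun _ => rfl⟩

theorem artOfHom_surjective (resP : P →ₐ[k] k) (I : Ideal P) (hI : I ≤ IsLocalRing.maximalIdeal P)
    (hN : ∃ m, IsLocalRing.maximalIdeal P ^ m ≤ I) : Function.Surjective (artOfHom resP I hI hN).1 :=
  Ideal.Quotient.mk_surjective

theorem artOfHom_eq_zero_iff (resP : P →ₐ[k] k) (I : Ideal P) (hI : I ≤ IsLocalRing.maximalIdeal P)
    (hN : ∃ m, IsLocalRing.maximalIdeal P ^ m ≤ I) (x : P) : (artOfHom resP I hI hN).1 x = 0 ↔ x ∈ I :=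
  Ideal.Quotient.eq_zero_iff_mem

theorem exists_generators_quot (J : Ideal P) (hJ : J ≤ IsLocalRing.maximalIdeal P ^ 2) (res : (P ⧸ J) →ₐ[k] k)
    [Module.Finite k W] (T : ObsTheory (hR (P ⧸ J) res) W) :
    ∃ s : Finset P, s.card ≤ Module.finrank k W ∧ Ideal.span (s : Set P) = J := by
  classical
  set n := IsLocalRing.maximalIdeal P with hn
  let resP : P →ₐ[k] k := K723.Conormal.resP J res
  have hJn : J ≤ n := hJ.trans (Ideal.pow_le_self two_ne_zero)
  -- Artin–Rees
  obtain ⟨m₀, hm₀⟩ := Ideal.exists_pow_inf_eq_pow_smul n J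
  have hAR : n ^ (m₀ + 1) ⊓ J ≤ n * J := by
    have h1 := hm₀ (m₀ + 1) (Nat.le_succ _)
    rw [smul_eq_mul, Ideal.mul_top] at h1
    rw [h1, Nat.add_sub_cancel_left, pow_one, smul_eq_mul]
    exact Ideal.mul_mono_right inf_le_right
  set m := m₀ + 1 with hm
  have hI : n * J ⊔ n ^ m ≤ n := sup_le Ideal.mul_le_left (Ideal.pow_le_self (Nat.succ_ne_zero _))
  let C' := artOf resP (n * J ⊔ n ^ m) hI ⟨m, le_sup_right⟩
  let q : HomSet P resP C' := artOfHom resP (n * J ⊔ n ^ m) hI ⟨m, le_sup_right⟩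
  have hqs : Function.Surjective q.1 := artOfHom_surjective _ _ _ _
  have hq0 : ∀ x, q.1 x = 0 ↔ x ∈ n * J ⊔ n ^ m := artOfHom_eq_zero_iff _ _ _ _
  have hqm : ∀ x, q.1 x ∈ IsLocalRing.maximalIdeal C' ↔ x ∈ n := by
    intro x
    have h1 : C'.res (q.1 x) = resP x := DFunLike.congr_fun q.2 x
    rw [mem_maximalIdeal_iff, h1, hn, ← ker_eq resP]
    rfl
  have hK₀ : J.map q.1 ≤ IsLocalRing.maximalIdeal C' := by
    rw [Ideal.map_le_iff_le_comap]
    intro x hx
    exact (hqm x).2 (hJn hx)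
  let p := quotMk C' (J.map q.1) hK₀
  have hker : RingHom.ker p.toAlgHom = J.map q.1 := K723.SmallExt.ker_quotMk _ _ _
  have hp : IsSemismallExt p := by
    refine ⟨quotMk_surjective _ _ _, ?_⟩
    rw [hker, eq_bot_iff, Ideal.mul_le]
    intro a ha b hb
    obtain ⟨a, rfl⟩ := hqs a
    obtain ⟨b', hb', rfl⟩ := (Ideal.mem_map_iff_of_surjective q.1 hqs).1 hb
    rw [Ideal.mem_bot, ← map_mul, hq0]
    exact Ideal.mem_sup_left (Ideal.mul_mem_mul ((hqm a).1 ha) hb')
  obtain ⟨u, hu⟩ := K723.Conormal.exists_down (J := J) (res := res) (HomSet.map p q) (fun j hj => by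
    change p (q.1 j) = 0
    rw [K723.SmallExt.quotMk_eq_zero_iff]
    exact Ideal.mem_map_of_mem _ hj)
  -- the injection of the dual of the kernel in `W`
  let δ : Module.Dual k ↥(RingHom.ker p.toAlgHom) →ₗ[k] W :=
    (TensorProduct.rid k W).toLinearMap.comp ((LinearMap.lTensorHom W).flip (T.obs p hp u))
  have hδ : Function.Injective δ := by
    rw [injective_iff_map_eq_zero]
    intro l hl
    have hl' : LinearMap.lTensor W l (T.obs p hp u) = 0 := (TensorProduct.rid k W).map_eq_zero_iff.1 hl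
    obtain ⟨ψ, hψ⟩ := exists_lift_of_lTensor_eq_zero T hp u l hl'
    have hK := (kerIdeal_le hp l).trans (K723.SmallExt.ker_le_maximalIdeal p)
    have hKJ := kerIdeal_le hp l
    have hq' := quotFactor_semismall hp hK hKJ
    have h1 : HomSet.map (quotFactor hK p hKJ) (K723.Conormal.up J res ψ) =
        HomSet.map (quotFactor hK p hKJ) (HomSet.map (quotMk C' _ hK) q) := by
      rw [← K723.Conormal.up_map]
      have : HomSet.map (quotFactor hK p hKJ) ψ = u := hψ
      rw [this, hu]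
      rfl
    have h2 : ∀ j ∈ J, q.1 j ∈ kerIdeal hp l := by
      intro j hj
      rw [← K723.SmallExt.quotMk_eq_zero_iff C' _ hK]
      have hj2 : j ∈ RingHom.ker resP ^ 2 := by rw [ker_eq]; exact hJ hj
      have h3 := K723.Conormal.eq_on_sq _ hq' _ _ h1 hj2
      change _ = quotMk C' _ hK (q.1 j) at h3
      rw [← h3]
      change ψ.1 (Ideal.Quotient.mk J j) = 0
      rw [Ideal.Quotient.eq_zero_iff_mem.2 hj, map_zero]
    refine LinearMap.ext fun x => ?_
    have hx : (x : C') ∈ J.map q.1 := hker.le x.2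
    obtain ⟨j, hj, hjx⟩ := (Ideal.mem_map_iff_of_surjective q.1 hqs).1 hx
    obtain ⟨h4, h5⟩ := h2 j hj
    have : x = ⟨q.1 j, h4⟩ := Subtype.ext hjx.symm
    rw [this, h5]
    rfl
  haveI : Module.Finite k ↥(RingHom.ker p.toAlgHom) := by
    haveI := K723.Length.finite k k C'
    exact Module.Finite.of_injective ((Submodule.subtype (RingHom.ker p.toAlgHom)).restrictScalars k)
      Subtype.val_injective
  have hrank : Module.finrank k ↥(RingHom.ker p.toAlgHom) ≤ Module.finrank k W := by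
    rw [← Subspace.dual_finrank_eq]
    exact LinearMap.finrank_le_finrank_of_injective hδ
  -- generators
  let b := Module.finBasis k ↥(RingHom.ker p.toAlgHom)
  have hb : ∀ i, ∃ j ∈ J, q.1 j = b i := by
    intro i
    have hx : (b i : C') ∈ J.map q.1 := hker.le (b i).2
    obtain ⟨j, hj, hjx⟩ := (Ideal.mem_map_iff_of_surjective q.1 hqs).1 hx
    exact ⟨j, hj, hjx⟩
  choose g hgJ hg using hb
  refine ⟨Finset.univ.image g, (Finset.card_image_le.trans (by simp)).trans hrank, ?_⟩
  have hle : Ideal.span ((Finset.univ.image g : Finset P) : Set P) ≤ J := by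
    rw [Ideal.span_le]
    intro x hx
    rw [Finset.mem_coe, Finset.mem_image] at hx
    obtain ⟨i, _, rfl⟩ := hx
    exact hgJ i
  refine le_antisymm hle ?_
  refine Submodule.le_of_le_smul_of_le_jacobson_bot (I := n) (IsNoetherian.noetherian _)
    (IsLocalRing.jacobson_eq_maximalIdeal _ bot_ne_top).ge ?_
  intro x hx
  have hxk : q.1 x ∈ RingHom.ker p.toAlgHom := hker.ge (Ideal.mem_map_of_mem _ hx)
  have hrepr : q.1 x = q.1 (∑ i, (b.repr ⟨q.1 x, hxk⟩ i) • g i) := by
    have h1 := congrArg Subtype.val (b.sum_repr ⟨q.1 x, hxk⟩)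
    rw [map_sum]
    refine h1.symm.trans ?_
    rw [AddSubmonoidClass.coe_finset_sum]
    refine Finset.sum_congr rfl fun i _ => ?_
    rw [map_smul, hg]
    rfl
  rw [← sub_eq_zero, ← map_sub, hq0, Submodule.mem_sup] at hrepr
  obtain ⟨y, hy, z, hz, hyz⟩ := hrepr
  have hsum : ∑ i, (b.repr ⟨q.1 x, hxk⟩ i) • g i ∈ Ideal.span ((Finset.univ.image g : Finset P) : Set P) := by
    refine Ideal.sum_mem _ fun i _ => ?_
    rw [Algebra.smul_def]
    refine Ideal.mul_mem_left _ _ (Ideal.subset_span ?_)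
    rw [Finset.mem_coe, Finset.mem_image]
    exact ⟨i, Finset.mem_univ _, rfl⟩
  have hyJ : y ∈ J := Ideal.mul_le_right hy
  have hzJ : z ∈ J := by
    have : z = x - ∑ i, (b.repr ⟨q.1 x, hxk⟩ i) • g i - y := by rw [← hyz]; ring
    rw [this]
    exact Ideal.sub_mem _ (Ideal.sub_mem _ hx (hle hsum)) hyJ
  have hz' : z ∈ n * J := hAR ⟨hz, hzJ⟩
  have : x = (∑ i, (b.repr ⟨q.1 x, hxk⟩ i) • g i) + (y + z) := by rw [hyz]; ring
  rw [this]
  exact Submodule.add_mem_sup hsum (Ideal.add_mem _ hy hz')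

end Main

end K723.Bound
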