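import Groth.Prelude.Def_ArtFun2
import Groth.Prelude.Def_ArtFun5
import Groth.Agent.Ega4A.CompleteNoeth
import Mathlib.RingTheory.AdicCompletion.LocalRing
import Mathlib.RingTheory.AdicCompletion.Algebra

/-! The completion of a Noetherian local augmented algebra as a coefficient ring. -/

set_option autoImplicit false
universe u v w
open CategoryTheory ArtFun ArtFun.Art

namespace K723.Completion

open IsLocalRing

variable {Λ k : Type u} [CommRing Λ] [Field k] [Algebra Λ k]
variable (O : Type u) [CommRing O] [IsLocalRing O] [IsNoetherianRing O] [Algebra Λ O]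
  (resO : O →ₐ[Λ] k) (hres : Function.Surjective resO)

include hres in
omit [IsNoetherianRing O] in
theorem ker_resO : RingHom.ker resO = maximalIdeal O :=
  IsLocalRing.eq_maximalIdeal (RingHom.ker_isMaximal_of_surjective (resO : O →+* k) hres)

/-- The augmentation of the completion. -/
noncomputable def resHat : AdicCompletion (maximalIdeal O) O →ₐ[Λ] k :=
  (Ideal.Quotient.liftₐ (maximalIdeal O) resO (fun a ha => by
    have : a ∈ RingHom.ker resO := by rw [ker_resO O resO hres]; exact ha
    exact this)).comp ((AdicCompletion.evalOneₐ (maximalIdeal O)).restrictScalars Λ)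

/-- The completion of `O` as a coefficient ring. -/
noncomputable def hat : CRing Λ k where
  carrier := AdicCompletion (maximalIdeal O) O
  isNoetherianRing := Groth.Agent.Ega4A.CompleteNoeth.isNoetherianRing_adicCompletion (maximalIdeal O)
  res := resHat O resO hres
  res_surjective := by
    intro c
    obtain ⟨a, rfl⟩ := hres c
    exact ⟨algebraMap O _ a, rfl⟩
  isAdicComplete := inferInstance

/-- The map `O → Ô`. -/
noncomputable def toHat : O →ₐ[Λ] (hat O resO hres).carrier :=
  IsScalarTower.toAlgHom Λ O (AdicCompletion (maximalIdeal O) O)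

theorem res_comp_toHat : (hat O resO hres).res.comp (toHat O resO hres) = resO :=
  AlgHom.ext fun _ => rfl

theorem exists_approx (n : ℕ) (r : (hat O resO hres).carrier) :
    ∃ o : O, r - toHat O resO hres o ∈ maximalIdeal (hat O resO hres).carrier ^ n := by
  change AdicCompletion (maximalIdeal O) O at r
  obtain ⟨o, ho⟩ := Ideal.Quotient.mk_surjective (AdicCompletion.evalₐ (maximalIdeal O) n r)
  refine ⟨o, ?_⟩
  change r - algebraMap O (AdicCompletion (maximalIdeal O) O) o ∈
    maximalIdeal (AdicCompletion (maximalIdeal O) O) ^ n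
  rw [AdicCompletion.maximalIdeal_eq_map, ← Ideal.map_pow, ← Submodule.restrictScalars_mem O,
    ← Ideal.smul_top_eq_map, AdicCompletion.pow_smul_top_eq_ker_eval (maximalIdeal O).fg_of_isNoetherianRing,
    LinearMap.mem_ker]
  have h1 : AdicCompletion.evalₐ (maximalIdeal O) n
      (r - algebraMap O (AdicCompletion (maximalIdeal O) O) o) = 0 := by
    rw [map_sub, ← ho, sub_eq_zero]
    exact (AlgHom.commutes _ _).symm
  have h2 := AdicCompletion.factor_evalₐ_eq_eval (I := maximalIdeal O) (n := n)
    (r - algebraMap O (AdicCompletion (maximalIdeal O) O) o) (by simp)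
  rw [← h2, h1, map_zero]

variable {O resO}

include hres in
omit [IsNoetherianRing O] in
theorem map_mem {A : Art Λ k} (f : HomSet O resO A) {x : O} (hx : x ∈ maximalIdeal O) :
    f.1 x ∈ maximalIdeal A := by
  rw [mem_maximalIdeal_iff]
  have h : A.res (f.1 x) = resO x := DFunLike.congr_fun f.2 x
  rw [h]
  have : x ∈ RingHom.ker resO := by rw [ker_resO O resO hres]; exact hx
  exact this

/-- Restriction of maps along `O → Ô` is a natural bijection. -/
theorem exists_extend' {A : Art Λ k} (f : HomSet O resO A) :
    ∃ g : HomSet (hat O resO hres).carrier (hat O resO hres).res A, g.1.comp (toHat O resO hres) = f.1 := by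
  obtain ⟨n, hn⟩ := (isArtinianRing_iff_isNilpotent_maximalIdeal A).1 inferInstance
  have h0 : ∀ a ∈ maximalIdeal O ^ n, f.1 a = 0 := by
    intro a ha
    have h1 : Ideal.map f.1 (maximalIdeal O) ≤ maximalIdeal A := by
      rw [Ideal.map_le_iff_le_comap]
      intro x hx
      exact map_mem hres f hx
    have h2 := Ideal.pow_right_mono h1 n
    rw [hn, ← Ideal.map_pow] at h2
    exact h2 (Ideal.mem_map_of_mem _ ha)
  let g : (hat O resO hres).carrier →ₐ[Λ] A :=
    (Ideal.Quotient.liftₐ (maximalIdeal O ^ n) f.1 h0).comp
      ((AdicCompletion.evalₐ (maximalIdeal O) n).restrictScalars Λ)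
  have hg : g.comp (toHat O resO hres) = f.1 := AlgHom.ext fun a => by
    change Ideal.Quotient.liftₐ (maximalIdeal O ^ n) f.1 h0
      (AdicCompletion.evalₐ (maximalIdeal O) n (algebraMap O _ a)) = f.1 a
    rw [AlgHom.commutes]
    rfl
  refine ⟨⟨g, ?_⟩, hg⟩
  apply AlgHom.ext
  intro r
  obtain ⟨o, ho⟩ := exists_approx O resO hres (n + 1) r
  have ho1 : r - toHat O resO hres o ∈ maximalIdeal (hat O resO hres).carrier :=
    Ideal.pow_le_self (Nat.succ_ne_zero n) ho
  -- both sides kill the maximal ideal of the completion
  have e1 : (hat O resO hres).res r = resO o := by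
    have := (CRing.mem_maximalIdeal_iff _ _).1 ho1
    rw [map_sub, sub_eq_zero] at this
    rw [this]
    exact DFunLike.congr_fun (res_comp_toHat O resO hres) o
  have e2 : A.res (g (r - toHat O resO hres o)) = 0 := by
    have hm : ∀ y ∈ maximalIdeal (hat O resO hres).carrier, g y ∈ maximalIdeal A := by
      have hmap : maximalIdeal (hat O resO hres).carrier = (maximalIdeal O).map (toHat O resO hres) :=
        AdicCompletion.maximalIdeal_eq_map
      have : (maximalIdeal (hat O resO hres).carrier).map g ≤ maximalIdeal A := by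
        rw [hmap, Ideal.map_le_iff_le_comap, Ideal.map_le_iff_le_comap]
        intro x hx
        rw [Ideal.mem_comap, Ideal.mem_comap]
        have h3 : g (toHat O resO hres x) = f.1 x := DFunLike.congr_fun hg x
        rw [h3]
        exact map_mem hres f hx
      exact fun y hy => this (Ideal.mem_map_of_mem _ hy)
    exact (mem_maximalIdeal_iff A _).1 (hm _ ho1)
  rw [map_sub, map_sub, sub_eq_zero] at e2
  change A.res (g r) = _
  rw [e2, e1]
  have h3 : g (toHat O resO hres o) = f.1 o := DFunLike.congr_fun hg o
  rw [h3]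
  exact DFunLike.congr_fun f.2 o

theorem extend_unique {A : Art Λ k} (g g' : HomSet (hat O resO hres).carrier (hat O resO hres).res A)
    (h : g.1.comp (toHat O resO hres) = g'.1.comp (toHat O resO hres)) : g = g' := by
  obtain ⟨n, hn⟩ := (isArtinianRing_iff_isNilpotent_maximalIdeal A).1 inferInstance
  have h0 : ∀ (g : HomSet (hat O resO hres).carrier (hat O resO hres).res A),
      ∀ a ∈ maximalIdeal (hat O resO hres).carrier ^ n, g.1 a = 0 := by
    intro g a ha
    have h1 : Ideal.map g.1 (maximalIdeal (hat O resO hres).carrier) ≤ maximalIdeal A := by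
      rw [Ideal.map_le_iff_le_comap]
      intro x hx
      rw [Ideal.mem_comap, mem_maximalIdeal_iff]
      have h : A.res (g.1 x) = (hat O resO hres).res x := DFunLike.congr_fun g.2 x
      rw [h]
      exact (CRing.mem_maximalIdeal_iff _ _).1 hx
    have h2 := Ideal.pow_right_mono h1 n
    rw [hn, ← Ideal.map_pow] at h2
    exact h2 (Ideal.mem_map_of_mem _ ha)
  refine Subtype.ext (AlgHom.ext fun r => ?_)
  obtain ⟨o, ho⟩ := exists_approx O resO hres n r
  have e1 := h0 g _ ho
  have e2 := h0 g' _ ho
  rw [map_sub, sub_eq_zero] at e1 e2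
  rw [e1, e2]
  exact DFunLike.congr_fun h o

/-- The natural bijections `h_Ô(A) ≃ h_O(A)`. -/
noncomputable def equiv (A : Art Λ k) :
    HomSet (hat O resO hres).carrier (hat O resO hres).res A ≃ HomSet O resO A :=
  Equiv.ofBijective (fun g => ⟨g.1.comp (toHat O resO hres), by
      rw [← AlgHom.comp_assoc, g.2, res_comp_toHat]⟩)
    ⟨fun g g' h => extend_unique hres g g' (congrArg Subtype.val h), fun f => by
      obtain ⟨g, hg⟩ := exists_extend' hres f
      exact ⟨g, Subtype.ext hg⟩⟩

theorem equiv_map {A B : Art Λ k} (h : A ⟶ B)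
    (g : HomSet (hat O resO hres).carrier (hat O resO hres).res A) :
    equiv hres B (HomSet.map h g) = HomSet.map h (equiv hres A g) := rfl

end K723.Completion
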