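import Groth.Prelude.Def_ArtFun
import Mathlib.RingTheory.Nakayama
import Mathlib.RingTheory.HopkinsLevitzki
import Groth.Agent.ArtFun.K723.SmallExt

/-! Surjectivity of morphisms of `Art Λ k` on cotangent spaces. -/

set_option autoImplicit false
universe u v
open CategoryTheory ArtFun ArtFun.Art

namespace K723.Cotangent

variable {Λ : Type u} {k : Type u} [CommRing Λ] [Field k] [Algebra Λ k]

theorem map_maximalIdeal_le {A B : Art Λ k} (f : A ⟶ B) :
    Ideal.map f.toAlgHom (IsLocalRing.maximalIdeal A) ≤ IsLocalRing.maximalIdeal B := by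
  rw [Ideal.map_le_iff_le_comap]
  intro a ha
  rw [Ideal.mem_comap]
  exact (K723.SmallExt.mem_maximalIdeal_of_surjective_iff f a).2 ha

theorem map_ker_le {A B : Art Λ k} (f : A ⟶ B) :
    Ideal.map (algebraMap Λ B) (RingHom.ker (algebraMap Λ k)) ≤
      Ideal.map f.toAlgHom (IsLocalRing.maximalIdeal A) := by
  rw [Ideal.map_le_iff_le_comap]
  intro l hl
  rw [Ideal.mem_comap, ← f.toAlgHom.commutes l]
  apply Ideal.mem_map_of_mem
  rw [mem_maximalIdeal_iff, AlgHom.commutes]
  exact hl

theorem map_maximalIdeal_of_surjective {A B : Art Λ k} (f : A ⟶ B) (hf : Function.Surjective f) :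
    Ideal.map f.toAlgHom (IsLocalRing.maximalIdeal A) = IsLocalRing.maximalIdeal B := by
  refine le_antisymm (map_maximalIdeal_le f) ?_
  intro b hb
  obtain ⟨a, rfl⟩ := hf b
  exact Ideal.mem_map_of_mem _ ((K723.SmallExt.mem_maximalIdeal_of_surjective_iff f a).1 hb)

/-- Surjectivity on `m/m²` implies `f(m_A)B = m_B`. -/
theorem map_maximalIdeal_eq {A B : Art Λ k} (f : A ⟶ B)
    (h : Ideal.map f.toAlgHom (IsLocalRing.maximalIdeal A) ⊔ IsLocalRing.maximalIdeal B ^ 2 =
      IsLocalRing.maximalIdeal B) :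
    Ideal.map f.toAlgHom (IsLocalRing.maximalIdeal A) = IsLocalRing.maximalIdeal B := by
  refine le_antisymm (map_maximalIdeal_le f) ?_
  refine Submodule.le_of_le_smul_of_le_jacobson_bot (I := IsLocalRing.maximalIdeal B)
    (IsNoetherian.noetherian _) (IsLocalRing.jacobson_eq_maximalIdeal _ bot_ne_top).ge ?_
  rw [smul_eq_mul, ← pow_two]
  exact h.ge

theorem surjective_of_map_maximalIdeal_eq {A B : Art Λ k} (f : A ⟶ B)
    (h : Ideal.map f.toAlgHom (IsLocalRing.maximalIdeal A) = IsLocalRing.maximalIdeal B) :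
    Function.Surjective f := by
  have key : ∀ n : ℕ, ∀ b : B, ∃ a : A, b - f a ∈ IsLocalRing.maximalIdeal B ^ n := by
    intro n
    induction n with
    | zero => exact fun b => ⟨0, by simp⟩
    | succ n ih =>
      intro b
      -- first approximate modulo the maximal ideal
      have h1 : ∀ b : B, ∃ a : A, b - f a ∈ IsLocalRing.maximalIdeal B := by
        intro b
        obtain ⟨a, ha⟩ := A.res_surjective (B.res b)
        refine ⟨a, ?_⟩
        rw [mem_maximalIdeal_iff, map_sub, Art.res_app f, ha, sub_self]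
      -- every element of `m_B^n` is in `f(A) + m_B^(n+1)`
      have h2 : ∀ c ∈ IsLocalRing.maximalIdeal B ^ n,
          ∃ a ∈ IsLocalRing.maximalIdeal A ^ n, c - f a ∈ IsLocalRing.maximalIdeal B ^ (n + 1) := by
        have hfn : ∀ a ∈ IsLocalRing.maximalIdeal A ^ n, f a ∈ IsLocalRing.maximalIdeal B ^ n := by
          intro a ha
          rw [← h, ← Ideal.map_pow]
          exact Ideal.mem_map_of_mem _ ha
        intro c hc
        rw [← h, ← Ideal.map_pow] at hc
        refine Submodule.span_induction (p := fun c _ => ∃ a ∈ IsLocalRing.maximalIdeal A ^ n,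
          c - f a ∈ IsLocalRing.maximalIdeal B ^ (n + 1)) ?_ ⟨0, Ideal.zero_mem _, by simp⟩ ?_ ?_ hc
        · rintro _ ⟨a, ha, rfl⟩
          exact ⟨a, ha, by rw [show (f.toAlgHom : A → B) a - f a = 0 from sub_self _]; exact Ideal.zero_mem _⟩
        · rintro x y _ _ ⟨a, ha', ha⟩ ⟨a', ha2, ha3⟩
          refine ⟨a + a', Ideal.add_mem _ ha' ha2, ?_⟩
          rw [map_add, add_sub_add_comm]
          exact Ideal.add_mem _ ha ha3
        · rintro b x _ ⟨a, ha, hx⟩
          obtain ⟨a', ha'⟩ := h1 b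
          refine ⟨a' * a, Ideal.mul_mem_left _ _ ha, ?_⟩
          have e : b • x - f (a' * a) = b * (x - f a) + (b - f a') * f a := by
            rw [map_mul, smul_eq_mul]; ring
          rw [e]
          refine Ideal.add_mem _ (Ideal.mul_mem_left _ _ hx) ?_
          rw [pow_succ']
          exact Ideal.mul_mem_mul ha' (hfn a ha)
      obtain ⟨a, ha⟩ := ih b
      obtain ⟨a', _, ha'⟩ := h2 _ ha
      refine ⟨a + a', ?_⟩
      rw [map_add, ← sub_sub]
      exact ha'
  obtain ⟨n, hn⟩ := (isArtinianRing_iff_isNilpotent_maximalIdeal B).1 inferInstance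
  intro b
  obtain ⟨a, ha⟩ := key n b
  rw [hn, Ideal.zero_eq_bot, Ideal.mem_bot, sub_eq_zero] at ha
  exact ⟨a, ha.symm⟩

theorem surjective_tfae {A B : Art Λ k} (f : A ⟶ B) :
    List.TFAE [Function.Surjective f,
      Ideal.map f.toAlgHom (IsLocalRing.maximalIdeal A) ⊔ IsLocalRing.maximalIdeal B ^ 2 = IsLocalRing.maximalIdeal B,
      Ideal.map (algebraMap Λ B) (RingHom.ker (algebraMap Λ k)) ⊔ Ideal.map f.toAlgHom (IsLocalRing.maximalIdeal A) ⊔
        IsLocalRing.maximalIdeal B ^ 2 = IsLocalRing.maximalIdeal B] := by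
  rw [sup_eq_right.2 (map_ker_le f)]
  tfae_have 1 → 2 := by
    intro hf
    rw [map_maximalIdeal_of_surjective f hf]
    exact sup_eq_left.2 (Ideal.pow_le_self two_ne_zero)
  tfae_have 2 → 3 := id
  tfae_have 3 → 1 := fun h => surjective_of_map_maximalIdeal_eq f (map_maximalIdeal_eq f h)
  tfae_finish

end K723.Cotangent
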