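import Groth.Prelude.Def_ArtFun5
import Mathlib.RingTheory.HopkinsLevitzki
import Mathlib.RingTheory.AdicCompletion.RingHom
import Groth.Agent.ArtFun.K723.SmallExt

/-! Maps out of / into coefficient rings and truncations. -/

set_option autoImplicit false
universe u v
open CategoryTheory ArtFun ArtFun.Art

namespace K723.Formal

variable {Λ : Type u} {k : Type u} [CommRing Λ] [Field k] [Algebra Λ k]

/-- A map from a coefficient ring to an Artinian object factors through a truncation. -/
theorem exists_factor (R : CRing Λ k) (A : Art Λ k) (u : HomSet R.carrier R.res A) :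
    ∃ (n : ℕ) (g : R.trunc n ⟶ A), HomSet.map g (R.truncHom n) = u := by
  obtain ⟨n, hn⟩ := (isArtinianRing_iff_isNilpotent_maximalIdeal A).1 inferInstance
  have hu : ∀ a ∈ IsLocalRing.maximalIdeal R.carrier, u.1 a ∈ IsLocalRing.maximalIdeal A := by
    intro a ha
    rw [mem_maximalIdeal_iff]
    have := (CRing.mem_maximalIdeal_iff R a).1 ha
    rw [← u.2] at this
    exact this
  have hpow : ∀ a ∈ CRing.mpow R n, u.1 a = 0 := by
    intro a ha
    have h1 : u.1 a ∈ IsLocalRing.maximalIdeal A ^ (n + 1) := by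
      have : Ideal.map u.1 (IsLocalRing.maximalIdeal R.carrier) ≤ IsLocalRing.maximalIdeal A :=
        Ideal.map_le_iff_le_comap.2 hu
      refine Ideal.pow_right_mono this (n + 1) ?_
      rw [← Ideal.map_pow]
      exact Ideal.mem_map_of_mem _ ha
    rw [pow_succ, hn, Ideal.zero_eq_bot, Ideal.bot_mul] at h1
    exact h1
  refine ⟨n, ⟨Ideal.Quotient.liftₐ (CRing.mpow R n) u.1 hpow, ?_⟩, ?_⟩
  · apply AlgHom.ext
    intro x
    obtain ⟨a, rfl⟩ := Ideal.Quotient.mk_surjective x
    exact DFunLike.congr_fun u.2 a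
  · exact Subtype.ext (AlgHom.ext fun _ => rfl)

/-- Elements of a coefficient ring agreeing in all truncations are equal. -/
theorem eq_of_forall_trunc (S : CRing Λ k) {a b : S.carrier}
    (h : ∀ n, (S.truncHom n).1 a = (S.truncHom n).1 b) : a = b := by
  haveI := S.isAdicComplete
  have h0 : a - b = 0 := by
    apply IsHausdorff.haus (I := IsLocalRing.maximalIdeal S.carrier) inferInstance
    intro n
    have h1 : Ideal.Quotient.mk (CRing.mpow S n) a = Ideal.Quotient.mk (CRing.mpow S n) b := h n
    rw [Ideal.Quotient.eq] at h1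
    rw [SModEq.zero, smul_eq_mul, Ideal.mul_top]
    exact Ideal.pow_le_pow_right (Nat.le_succ n) h1
  exact sub_eq_zero.1 h0

theorem hom_ext_trunc {R : Type u} [CommRing R] [Algebra Λ R] (S : CRing Λ k) {g₁ g₂ : R →ₐ[Λ] S.carrier}
    (h : ∀ n, (S.truncHom n).1.comp g₁ = (S.truncHom n).1.comp g₂) : g₁ = g₂ := by
  apply AlgHom.ext
  intro r
  exact eq_of_forall_trunc S fun n => DFunLike.congr_fun (h n) r

/-- Gluing: compatible maps into the truncations come from a map into the coefficient ring. -/
theorem exists_glue {R : Type u} [CommRing R] [Algebra Λ R] {resR : R →ₐ[Λ] k} (S : CRing Λ k)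
    (φ : ∀ n, HomSet R resR (S.trunc n)) (hφ : ∀ n, HomSet.map (S.truncMap n) (φ (n + 1)) = φ n) :
    ∃ (g : R →ₐ[Λ] S.carrier), S.res.comp g = resR ∧ ∀ n, (S.truncHom n).1.comp g = (φ n).1 := by
  haveI := S.isAdicComplete
  set I := IsLocalRing.maximalIdeal S.carrier with hI
  -- the family of ring homs indexed by powers `I^n`, shifting by one
  have hsur : ∀ r : R, ∃ s : S.carrier, ∀ n, (S.truncHom n).1 s = (φ n).1 r := by
    intro r
    choose f hf using fun n => Ideal.Quotient.mk_surjective (I := CRing.mpow S n) ((φ n).1 r)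
    have hcomp : ∀ n, Ideal.Quotient.mk (CRing.mpow S n) (f (n + 1)) = Ideal.Quotient.mk (CRing.mpow S n) (f n) := by
      intro n
      have h1 : (S.truncMap n) ((φ (n + 1)).1 r) = (φ n).1 r :=
        DFunLike.congr_fun (congrArg Subtype.val (hφ n)) r
      rw [hf n, ← h1, ← hf (n + 1)]
      rfl
    have hc : ∀ n, f (n + 1) - f n ∈ I ^ (n + 1) := fun n => Ideal.Quotient.eq.1 (hcomp n)
    have hcau : ∀ {m n : ℕ}, m ≤ n → f n ≡ f m [SMOD (I ^ m • ⊤ : Submodule S.carrier S.carrier)] := by
      intro m n hmn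
      rw [SModEq.sub_mem, smul_eq_mul, Ideal.mul_top]
      induction n, hmn using Nat.le_induction with
      | base => rw [sub_self]; exact Ideal.zero_mem _
      | succ n hmn ih =>
        have : f (n + 1) - f m = (f (n + 1) - f n) + (f n - f m) := by ring
        rw [this]
        exact Ideal.add_mem _ (Ideal.pow_le_pow_right (by omega) (hc n)) ih
    obtain ⟨s, hs⟩ := IsPrecomplete.prec (I := I) inferInstance (fun {m n} hmn => (hcau hmn).symm)
    refine ⟨s, fun n => ?_⟩
    have h2 := hs (n + 1)
    rw [SModEq.sub_mem, smul_eq_mul, Ideal.mul_top] at h2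
    have h3 : f (n + 1) - f n ∈ I ^ (n + 1) := hc n
    change Ideal.Quotient.mk (CRing.mpow S n) s = _
    rw [← hf n]
    symm
    rw [Ideal.Quotient.eq]
    have : f n - s = (f (n + 1) - s) - (f (n + 1) - f n) := by ring
    rw [this]
    exact Ideal.sub_mem _ h2 h3
  choose g hg using hsur
  have hadd : ∀ a b, g (a + b) = g a + g b := fun a b => eq_of_forall_trunc S fun n => by
    rw [hg, map_add, map_add, hg, hg]
  have hmul : ∀ a b, g (a * b) = g a * g b := fun a b => eq_of_forall_trunc S fun n => by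
    rw [hg, map_mul, map_mul, hg, hg]
  have h1 : g 1 = 1 := eq_of_forall_trunc S fun n => by rw [hg, map_one, map_one]
  have h0 : g 0 = 0 := eq_of_forall_trunc S fun n => by rw [hg, map_zero, map_zero]
  have hal : ∀ l : Λ, g (algebraMap Λ R l) = algebraMap Λ S.carrier l := fun l => eq_of_forall_trunc S fun n => by
    rw [hg, AlgHom.commutes, AlgHom.commutes]
  let G : R →ₐ[Λ] S.carrier :=
    { toFun := g, map_one' := h1, map_mul' := hmul, map_zero' := h0, map_add' := hadd, commutes' := hal }
  have hG : ∀ n, (S.truncHom n).1.comp G = (φ n).1 := fun n => AlgHom.ext fun r => hg r n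
  refine ⟨G, ?_, hG⟩
  have h4 := (φ 0).2
  rw [← hG 0, ← AlgHom.comp_assoc, (S.truncHom 0).2] at h4
  exact h4

end K723.Formal
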