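import Groth.Prelude.Def_ArtFun3
import Groth.Agent.ArtFun.K723.Bound
import Groth.Agent.S2941
import Mathlib.RingTheory.RegularLocalRing.Polynomial
import Mathlib.RingTheory.EssentialFiniteness
import Mathlib.Algebra.Module.SpanRankOperations
import Mathlib.RingTheory.Ideal.KrullsHeightTheorem

/-! Krull dimension bounds from obstruction theories. -/

set_option autoImplicit false
universe u v w
open CategoryTheory ArtFun ArtFun.Art
open scoped TensorProduct

namespace K723.Krull

open IsLocalRing

variable {k : Type u} [Field k] {W : Type u} [AddCommGroup W] [Module k W]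

/-- A versal family pulls back obstruction theories. -/
theorem hasObsTheory_of_isVersal {F : Art k k ⥤ Type v} {R : Type u} [CommRing R] [Algebra k R]
    {resR : R →ₐ[k] k} (ξ : Family R resR F) (hξ : IsVersal ξ) (T : ObsTheory F W) :
    HasObsTheory (hR R resR) W := by
  refine ⟨⟨fun {C' C} p hp u => T.obs p hp (ξ.app C u), ?_, ?_⟩⟩
  · intro C' C p hp u
    rw [T.obs_eq_zero_iff]
    constructor
    · rintro ⟨y, hy⟩
      obtain ⟨ψ, h1, _⟩ := hξ p hp.1 u y hy
      exact ⟨ψ, h1⟩
    · rintro ⟨u', rfl⟩
      exact ⟨ξ.app C' u', (ξ.natural p u').symm⟩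
  · intro C' C p hp K hK hKJ hq u
    exact T.obs_quot p hp K hK hKJ hq _

/-- Number of generators of the kernel of a minimal presentation. -/
theorem exists_generators {P R : Type u} [CommRing P] [Algebra k P] [IsLocalRing P] [IsNoetherianRing P]
    [CommRing R] [Algebra k R] (π : P →ₐ[k] R) (hπ : Function.Surjective π)
    (hker : RingHom.ker π ≤ maximalIdeal P ^ 2) (res : R →ₐ[k] k) [Module.Finite k W]
    (T : ObsTheory (hR R res) W) :
    ∃ s : Finset P, s.card ≤ Module.finrank k W ∧ Ideal.span (s : Set P) = RingHom.ker π := by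
  let e : (P ⧸ RingHom.ker π) ≃ₐ[k] R := Ideal.quotientKerAlgEquivOfSurjective hπ
  obtain ⟨T'⟩ := K723.Transport.hasObsTheory_hR_of_algEquiv (resR := res.comp e.toAlgHom) e rfl T
  exact K723.Bound.exists_generators_quot (RingHom.ker π) hker _ T'

/-- The dimension estimates. -/
theorem bounds {P R : Type u} [CommRing P] [Algebra k P] [IsRegularLocalRing P]
    [CommRing R] [IsLocalRing R] [IsNoetherianRing R] [Algebra k R] (π : P →ₐ[k] R) (hπ : Function.Surjective π)
    (hker : RingHom.ker π ≤ maximalIdeal P ^ 2) (res : R →ₐ[k] k) [Module.Finite k W]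
    (T : ObsTheory (hR R res) W) :
    ringKrullDim R ≤ (Module.finrank (ResidueField R) (CotangentSpace R) : WithBot ℕ∞) ∧
      (Module.finrank (ResidueField R) (CotangentSpace R) : WithBot ℕ∞) ≤
          ringKrullDim R + (Module.finrank k W : WithBot ℕ∞) ∧
      (Module.finrank k W = 0 → IsRegularLocalRing R) ∧
      (ringKrullDim R + (Module.finrank k W : WithBot ℕ∞) =
          (Module.finrank (ResidueField R) (CotangentSpace R) : WithBot ℕ∞) →
        ∃ (P : Type u) (_ : CommRing P) (_ : IsRegularLocalRing P) (π : P →+* R) (s : Finset P),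
          Function.Surjective π ∧ Ideal.span (s : Set P) = RingHom.ker π ∧
            ringKrullDim P = ringKrullDim R + (s.card : WithBot ℕ∞)) := by
  obtain ⟨s, hs, hspan⟩ := exists_generators π hπ hker res T
  have hd : ((maximalIdeal P).spanFinrank : WithBot ℕ∞) = ringKrullDim P :=
    IsRegularLocalRing.spanFinrank_maximalIdeal
  have hmin := (Groth.Agent.S2941.minimal_presentation_aux R P (π : P →+* R) hπ _ hd.symm (by
    rw [← pow_two]; exact hker)).1
  rw [hmin, spanFinrank_maximalIdeal_eq_finrank_cotangentSpace] at hd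
  have h1 : ringKrullDim R ≤ (Module.finrank (ResidueField R) (CotangentSpace R) : WithBot ℕ∞) := by
    rw [← spanFinrank_maximalIdeal_eq_finrank_cotangentSpace]
    exact ringKrullDim_le_spanFinrank_maximalIdeal R
  have hkm : RingHom.ker π ≤ maximalIdeal P := hker.trans (Ideal.pow_le_self two_ne_zero)
  have hRP : ringKrullDim (P ⧸ Ideal.span (s : Set P)) = ringKrullDim R := by
    rw [hspan]
    exact ringKrullDim_eq_of_ringEquiv (RingHom.quotientKerEquivOfSurjective hπ)
  have h2 : ringKrullDim P ≤ ringKrullDim R + (s.card : WithBot ℕ∞) := by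
    have h := ringKrullDim_le_ringKrullDim_quotient_add_card s (by
      rw [ringJacobson_eq_maximalIdeal]
      exact fun x hx => hkm (hspan ▸ Ideal.subset_span hx))
    rwa [hRP] at h
  have h3 : (s.card : WithBot ℕ∞) ≤ (Module.finrank k W : WithBot ℕ∞) := by exact_mod_cast hs
  refine ⟨h1, ?_, ?_, ?_⟩
  · rw [hd]
    exact h2.trans (add_le_add_right h3 _)
  · intro h0
    rw [h0, Nat.le_zero, Finset.card_eq_zero] at hs
    rw [hs, Finset.coe_empty, Ideal.span_empty] at hspan
    have hinj : Function.Injective π := (injective_iff_map_eq_zero π).2 fun a ha => by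
      have : a ∈ RingHom.ker π := ha
      rw [← hspan] at this
      exact this
    exact IsRegularLocalRing.of_ringEquiv (RingEquiv.ofBijective (π : P →+* R) ⟨hinj, hπ⟩)
  · intro h0
    refine ⟨P, inferInstance, inferInstance, (π : P →+* R), s, hπ, hspan, ?_⟩
    refine le_antisymm h2 ?_
    rw [← hd, ← h0]
    exact add_le_add_right h3 _

/-- Minimal presentations of `k`-algebras with regular source. -/
theorem exists_minimal_presentation (R : Type u) [CommRing R] [IsLocalRing R] [Algebra k R] : ∀ (d : ℕ)
    (B : Type u) [CommRing B] [IsRegularLocalRing B] [Algebra k B] (f : B →ₐ[k] R)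
    (_ : Function.Surjective f) (_ : ringKrullDim B = d),
    ∃ (P : Type u) (_ : CommRing P) (_ : IsRegularLocalRing P) (_ : Algebra k P) (π : P →ₐ[k] R),
      Function.Surjective π ∧ RingHom.ker π ≤ maximalIdeal P ^ 2 := by
  intro d
  induction d with
  | zero =>
    intro B _ _ _ f hf hd
    refine ⟨B, inferInstance, inferInstance, inferInstance, f, hf, ?_⟩
    have h2 : ((maximalIdeal B).spanFinrank : WithBot ℕ∞) = ringKrullDim B :=
      IsRegularLocalRing.spanFinrank_maximalIdeal
    rw [hd] at h2
    have h3 : (maximalIdeal B).spanFinrank = 0 := by exact_mod_cast h2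
    have h4 : maximalIdeal B = ⊥ :=
      (Submodule.spanFinrank_eq_zero_iff_eq_bot (IsNoetherian.noetherian _)).mp h3
    have h5 : RingHom.ker f ≤ maximalIdeal B := IsLocalRing.le_maximalIdeal (RingHom.ker_ne_top _)
    rw [h4] at h5
    exact h5.trans bot_le
  | succ d ih =>
    intro B _ _ _ f hf hd
    by_cases hker : RingHom.ker f ≤ maximalIdeal B ^ 2
    · exact ⟨B, inferInstance, inferInstance, inferInstance, f, hf, hker⟩
    · obtain ⟨y, hy, hy'⟩ := SetLike.not_le_iff_exists.mp hker
      have hkm : RingHom.ker f ≤ maximalIdeal B := IsLocalRing.le_maximalIdeal (RingHom.ker_ne_top _)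
      obtain ⟨hreg, d', hd', hdim⟩ := Groth.Agent.S2941.quotient_regular B (d + 1) hd y (hkm hy)
        (by rwa [← pow_two])
      have hdd : d' = d := by omega
      subst hdd
      have hyk : ∀ a ∈ Ideal.span {y}, f a = 0 := by
        intro a ha
        have : Ideal.span {y} ≤ RingHom.ker f := (Ideal.span_singleton_le_iff_mem _).mpr hy
        exact this ha
      exact ih (B ⧸ Ideal.span {y}) (Ideal.Quotient.liftₐ (Ideal.span {y}) f hyk)
        (Ideal.Quotient.lift_surjective_of_surjective _ hyk hf) hdim

/-- A local algebra essentially of finite type over a field is a quotient of a regular local algebra with kernel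
in the square of the maximal ideal. -/
theorem exists_regular_presentation (R : Type u) [CommRing R] [IsLocalRing R] [Algebra k R]
    [Algebra.EssFiniteType k R] :
    ∃ (P : Type u) (_ : CommRing P) (_ : IsRegularLocalRing P) (_ : Algebra k P) (π : P →ₐ[k] R),
      Function.Surjective π ∧ RingHom.ker π ≤ maximalIdeal P ^ 2 := by
  obtain ⟨s, hs⟩ := Algebra.EssFiniteType.cond (R := k) (S := R)
  let f : MvPolynomial s k →ₐ[k] R := MvPolynomial.aeval (Subtype.val : s → R)
  let 𝔭 : Ideal (MvPolynomial s k) := (maximalIdeal R).comap f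
  have h𝔭 : 𝔭.IsPrime := Ideal.comap_isPrime _ _
  have hreg : IsRegularLocalRing (Localization.AtPrime 𝔭) :=
    (isRegularRing_iff (R := MvPolynomial s k)).1 inferInstance 𝔭
  have hunit : ∀ y : 𝔭.primeCompl, IsUnit (f y) := by
    rintro ⟨y, hy⟩
    by_contra h
    exact hy ((mem_maximalIdeal _).2 h)
  let π₀ : Localization.AtPrime 𝔭 →ₐ[k] R := IsLocalization.liftAlgHom (M := 𝔭.primeCompl) (f := f) hunit
  have hπ₀ : ∀ x, π₀ (algebraMap _ _ x) = f x := fun x => IsLocalization.lift_eq _ x
  have hsurj : Function.Surjective π₀ := by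
    intro r
    obtain ⟨⟨a, t⟩, hat⟩ := IsLocalization.surj (M := (IsUnit.submonoid R).comap
      (algebraMap (Algebra.adjoin k (s : Set R)) R)) r
    have hmem : ∀ a : Algebra.adjoin k (s : Set R), ∃ F : MvPolynomial s k, f F = a := by
      rintro ⟨a, ha⟩
      rw [Algebra.adjoin_eq_range] at ha
      exact ha
    obtain ⟨F, hF⟩ := hmem a
    obtain ⟨G, hG⟩ := hmem t
    have ht : IsUnit (f G) := by rw [hG]; exact t.2
    have hG' : G ∈ 𝔭.primeCompl := fun h => (mem_maximalIdeal _).1 h ht
    refine ⟨IsLocalization.mk' _ F ⟨G, hG'⟩, ?_⟩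
    have h2 : π₀ (IsLocalization.mk' _ F ⟨G, hG'⟩) * f G = f F := by
      rw [← hπ₀, ← hπ₀, ← map_mul, IsLocalization.mk'_spec]
    have h3 : r * f G = f F := by rw [hF, hG]; exact hat
    exact ht.mul_right_cancel (h2.trans h3.symm)
  have hfin : ∃ d : ℕ, ringKrullDim (Localization.AtPrime 𝔭) = d :=
    ⟨_, (IsRegularLocalRing.spanFinrank_maximalIdeal (R := Localization.AtPrime 𝔭)).symm⟩
  obtain ⟨d, hd⟩ := hfin
  exact exists_minimal_presentation R d (Localization.AtPrime 𝔭) π₀ hsurj hd

end K723.Krull
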