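import Groth.Prelude.Def_ArtFun6
import Groth.Agent.ArtFun.K723.Completion
import Mathlib.AlgebraicGeometry.Stalk
import Mathlib.AlgebraicGeometry.Noetherian

/-! Pointed maps `Spec A → M` and the completed local ring. -/

set_option autoImplicit false
universe u
open CategoryTheory CategoryTheory.Limits AlgebraicGeometry
open ArtFun ArtFun.Art

namespace K723.Pointed

theorem exists_factor {M : Scheme.{u}} {A : CommRingCat.{u}} [IsLocalRing A] (g : Spec A ⟶ M) (y : M)
    (hy : g (IsLocalRing.closedPoint A) = y) :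
    ∃ φ : M.presheaf.stalk y ⟶ A, Spec.map φ ≫ M.fromSpecStalk y = g := by
  subst hy
  exact ⟨_, Scheme.Spec_stalkClosedPointTo_fromSpecStalk g⟩

variable {k : Type u} [Field k] (M : Scheme.{u}) (m : M ⟶ Spec (CommRingCat.of k))
    (x₀ : Spec (CommRingCat.of k) ⟶ M) (hx₀ : x₀ ≫ m = 𝟙 _) (y : M)
    (ρ : M.presheaf.stalk y ⟶ CommRingCat.of k) (hρ : Spec.map ρ ≫ M.fromSpecStalk y = x₀)
    (κ : CommRingCat.of k ⟶ M.presheaf.stalk y) (hκ : Spec.map κ = M.fromSpecStalk y ≫ m)

include hx₀ hρ hκ in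
theorem comp_eq_id : κ ≫ ρ = 𝟙 _ := by
  apply Spec.map_injective
  rw [Spec.map_comp, hκ, ← Category.assoc, hρ, hx₀, Spec.map_id]

/-- The algebra structure on the stalk. -/
@[reducible] noncomputable def alg : Algebra k (M.presheaf.stalk y) := κ.hom.toAlgebra

/-- The augmentation of the stalk. -/
noncomputable def res : letI := alg M y κ; M.presheaf.stalk y →ₐ[k] k :=
  letI := alg M y κ
  { ρ.hom with
    commutes' := fun c => by
      have h := comp_eq_id M m x₀ hx₀ y ρ hρ κ hκ
      exact congrArg (fun f => f.hom c) h }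

variable (A : Art k k)

/-- Local maps from the stalk give pointed maps. -/
noncomputable def toMap (φ : letI := alg M y κ; HomSet (M.presheaf.stalk y) (res M m x₀ hx₀ y ρ hρ κ hκ) A) :
    {g : Art.spec A ⟶ M // g ≫ m = Art.specMap (Art.ofBase A) ∧ Art.specRes A ≫ g = x₀} :=
  letI := alg M y κ
  ⟨Spec.map (CommRingCat.ofHom φ.1.toRingHom) ≫ M.fromSpecStalk y, by
    rw [Category.assoc, ← hκ, ← Spec.map_comp]
    congr 1
    ext c
    exact φ.1.commutes c, by
    rw [← Category.assoc, ← Spec.map_comp]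
    refine Eq.trans ?_ hρ
    congr 2
    ext c
    exact DFunLike.congr_fun φ.2 c⟩

theorem toMap_bijective (hy : y = x₀ (IsLocalRing.closedPoint (CommRingCat.of k))) :
    Function.Bijective (toMap M m x₀ hx₀ y ρ hρ κ hκ A) := by
  letI := alg M y κ
  constructor
  · intro φ ψ h
    have h1 : Spec.map (CommRingCat.ofHom φ.1.toRingHom) ≫ M.fromSpecStalk y =
      Spec.map (CommRingCat.ofHom ψ.1.toRingHom) ≫ M.fromSpecStalk y := congrArg Subtype.val h
    rw [cancel_mono] at h1
    have h2 := Spec.map_injective h1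
    refine Subtype.ext (AlgHom.ext fun c => ?_)
    exact congrArg (fun f => f.hom c) h2
  · rintro ⟨g, hg, hg'⟩
    have hpt : g (IsLocalRing.closedPoint (CommRingCat.of A)) = y := by
      haveI : IsLocalHom (CommRingCat.ofHom A.res.toRingHom).hom :=
        Function.Surjective.isLocalHom A.res.toRingHom A.res_surjective
      have h1 : (Art.specRes A) (IsLocalRing.closedPoint (CommRingCat.of k)) =
          IsLocalRing.closedPoint (CommRingCat.of A) := AlgebraicGeometry.Spec_closedPoint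
      rw [hy, ← h1, ← Scheme.Hom.comp_apply, hg']
    obtain ⟨φ, hφ⟩ := exists_factor g y hpt
    have hc : ∀ c : k, φ.hom (κ.hom c) = algebraMap k A c := by
      intro c
      have h1 : κ ≫ φ = CommRingCat.ofHom (Art.ofBase A).toAlgHom.toRingHom := by
        apply Spec.map_injective
        rw [Spec.map_comp, hκ, ← Category.assoc, hφ]
        exact hg
      exact congrArg (fun f => f.hom c) h1
    let φ' : M.presheaf.stalk y →ₐ[k] A := { φ.hom with commutes' := hc }
    refine ⟨⟨φ', ?_⟩, ?_⟩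
    · have h1 : φ ≫ CommRingCat.ofHom A.res.toRingHom = ρ := by
        apply Spec.map_injective
        rw [← cancel_mono (M.fromSpecStalk y), Spec.map_comp, Category.assoc, hφ, hρ]
        exact hg'
      apply AlgHom.ext
      intro c
      exact congrArg (fun f => f.hom c) h1
    · exact Subtype.ext hφ

include hx₀ in
theorem exists_cring [IsLocallyNoetherian M] :
    ∃ (R : ArtFun.CRing k k)
      (e : ∀ A : ArtFun.Art k k, ArtFun.HomSet R.carrier R.res A ≃
        {g : ArtFun.Art.spec A ⟶ M // g ≫ m = ArtFun.Art.specMap (ArtFun.Art.ofBase A) ∧ ArtFun.Art.specRes A ≫ g = x₀}),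
      ∀ (A B : ArtFun.Art k k) (h : A ⟶ B) (φ : ArtFun.HomSet R.carrier R.res A),
        ((e B) (ArtFun.HomSet.map h φ)).1 = ArtFun.Art.specMap h ≫ ((e A) φ).1 := by
  obtain ⟨y, hy⟩ : ∃ y, y = x₀ (IsLocalRing.closedPoint (CommRingCat.of k)) := ⟨_, rfl⟩
  obtain ⟨ρ, hρ⟩ := exists_factor x₀ y hy.symm
  obtain ⟨κ, hκ⟩ : ∃ κ : CommRingCat.of k ⟶ M.presheaf.stalk y, Spec.map κ = M.fromSpecStalk y ≫ m :=
    ⟨Spec.preimage _, Spec.map_preimage _⟩
  letI := alg M y κ
  have hres : Function.Surjective (res M m x₀ hx₀ y ρ hρ κ hκ) :=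
    fun c => ⟨algebraMap k _ c, (res M m x₀ hx₀ y ρ hρ κ hκ).commutes c⟩
  refine ⟨K723.Completion.hat (M.presheaf.stalk y) (res M m x₀ hx₀ y ρ hρ κ hκ) hres,
    fun A => (K723.Completion.equiv hres A).trans (Equiv.ofBijective _ (toMap_bijective M m x₀ hx₀ y ρ hρ κ hκ A hy)),
    ?_⟩
  intro A B h φ
  change Spec.map _ ≫ _ = Spec.map _ ≫ (Spec.map _ ≫ _)
  rw [← Category.assoc, ← Spec.map_comp]
  rfl

end K723.Pointed
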