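import Groth.Prelude.Def_ArtFun3
import Groth.Agent.ArtFun.K723.Conormal
import Groth.Agent.Ega41.MvPS
import Groth.Agent.Ega41.PowEval
import Groth.Agent.CalgB.PowField

/-! `h_S` is smooth for a power series ring `S` over `k`. -/

set_option autoImplicit false
universe u v
open CategoryTheory ArtFun ArtFun.Art

namespace K723.PowSmooth

variable {k : Type u} [Field k] (d : ℕ)

local notation "S" => MvPowerSeries (Fin d) k

theorem isAdicComplete_of_isNilpotent (A : Type u) [CommRing A] (I : Ideal A) (hI : IsNilpotent I) :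
    IsAdicComplete I A := by
  obtain ⟨n, hn⟩ := hI
  have hpow : ∀ m, n ≤ m → I ^ m = ⊥ := fun m hm => by
    rw [← Nat.sub_add_cancel hm, pow_add, hn, Ideal.zero_eq_bot, Ideal.mul_bot]
  haveI : IsHausdorff I A := ⟨fun x hx => by
    have := hx n
    rw [SModEq.zero, hn, Ideal.zero_eq_bot, Submodule.bot_smul, Submodule.mem_bot] at this
    exact this⟩
  haveI : IsPrecomplete I A := ⟨fun f hf => by
    refine ⟨f n, fun m => ?_⟩
    rcases le_total m n with h | h
    · exact hf h
    · have := (hf h).symm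
      rw [SModEq.sub_mem, hn, Ideal.zero_eq_bot, Submodule.bot_smul, Submodule.mem_bot] at this
      rw [SModEq.sub_mem, this]
      exact Submodule.zero_mem _⟩
  exact {}

theorem isAdicComplete_art (A : Art k k) : IsAdicComplete (IsLocalRing.maximalIdeal A) A :=
  isAdicComplete_of_isNilpotent A _ ((isArtinianRing_iff_isNilpotent_maximalIdeal A).1 inferInstance)

variable {d}

theorem resS_X {resS : S →ₐ[k] k} (i : Fin d) : resS (MvPowerSeries.X i) = 0 := by
  by_contra h
  have hmax : RingHom.ker (resS : S →+* k) = IsLocalRing.maximalIdeal S :=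
    IsLocalRing.eq_maximalIdeal (RingHom.ker_isMaximal_of_surjective (resS : S →+* k)
      (fun c => ⟨algebraMap k S c, resS.commutes c⟩))
  have : (MvPowerSeries.X i : S) ∈ IsLocalRing.maximalIdeal S := by
    rw [Groth.Agent.CalgB.PowField.maximalIdeal_eq]
    exact Ideal.subset_span ⟨i, rfl⟩
  rw [← hmax] at this
  exact h this

theorem ker_resS (resS : S →ₐ[k] k) : RingHom.ker resS = IsLocalRing.maximalIdeal S :=
  IsLocalRing.eq_maximalIdeal (RingHom.ker_isMaximal_of_surjective (resS : S →+* k)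
      (fun c => ⟨algebraMap k S c, resS.commutes c⟩))

/-- Two maps from a power series ring to an Artinian object agreeing on the variables are equal. -/
theorem homSet_ext {resS : S →ₐ[k] k} {C : Art k k} (f g : HomSet S resS C)
    (h : ∀ i, f.1 (MvPowerSeries.X i) = g.1 (MvPowerSeries.X i)) : f = g := by
  obtain ⟨N, hN⟩ := (isArtinianRing_iff_isNilpotent_maximalIdeal C).1 inferInstance
  have hz : ∀ (f : HomSet S resS C), ∀ x ∈ Groth.Agent.Ega41.MvPS.varIdeal (Fin d) k ^ N, f.1 x = 0 := by
    intro f x hx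
    have h1 : Ideal.map f.1 (Groth.Agent.Ega41.MvPS.varIdeal (Fin d) k) ≤ IsLocalRing.maximalIdeal C := by
      rw [Ideal.map_span, Ideal.span_le]
      rintro _ ⟨_, ⟨i, rfl⟩, rfl⟩
      exact K723.Conormal.map_mem f (RingHom.mem_ker.2 (resS_X i))
    have h2 := Ideal.pow_right_mono h1 N
    rw [hN, ← Ideal.map_pow] at h2
    exact h2 (Ideal.mem_map_of_mem _ hx)
  refine Subtype.ext (AlgHom.ext fun x => ?_)
  have hx := Groth.Agent.Ega41.MvPS.sub_truncTotal_mem (σ := Fin d) (R := k) N x
  have e1 := hz f _ hx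
  have e2 := hz g _ hx
  rw [map_sub, sub_eq_zero] at e1 e2
  rw [e1, e2]
  have hpoly : (f.1.comp (MvPolynomial.coeToMvPowerSeries.algHom k) : MvPolynomial (Fin d) k →ₐ[k] C) =
      g.1.comp (MvPolynomial.coeToMvPowerSeries.algHom k) := by
    apply MvPolynomial.algHom_ext
    intro i
    change f.1 (MvPolynomial.coeToMvPowerSeries.algHom k (MvPolynomial.X i)) =
      g.1 (MvPolynomial.coeToMvPowerSeries.algHom k (MvPolynomial.X i))
    rw [MvPolynomial.coeToMvPowerSeries.algHom_apply]
    simpa using h i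
  have := DFunLike.congr_fun hpoly (MvPowerSeries.truncTotal N x)
  change f.1 (MvPolynomial.coeToMvPowerSeries.algHom k _) = g.1 (MvPolynomial.coeToMvPowerSeries.algHom k _) at this
  rw [MvPolynomial.coeToMvPowerSeries.algHom_apply] at this
  simpa using this

/-- Existence of maps with prescribed values on the variables. -/
theorem exists_homSet {resS : S →ₐ[k] k} {C : Art k k} (x : Fin d → C)
    (hx : ∀ i, x i ∈ IsLocalRing.maximalIdeal C) :
    ∃ f : HomSet S resS C, ∀ i, f.1 (MvPowerSeries.X i) = x i := by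
  haveI := isAdicComplete_art C
  let f := Groth.Agent.Ega41.PowEval.powEval (R := k) (IsLocalRing.maximalIdeal C) x hx
  refine ⟨⟨f, ?_⟩, fun i => Groth.Agent.Ega41.PowEval.powEval_X _ _ _ i⟩
  -- two algebra maps to `k` with the same kernel agree
  have hX : ∀ i, (C.res.comp f) (MvPowerSeries.X i) = 0 := by
    intro i
    change C.res (f (MvPowerSeries.X i)) = 0
    rw [Groth.Agent.Ega41.PowEval.powEval_X]
    exact (mem_maximalIdeal_iff C _).1 (hx i)
  apply AlgHom.ext
  intro s
  have h1 : s - MvPowerSeries.C (MvPowerSeries.constantCoeff s) ∈ Ideal.span (Set.range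
      (MvPowerSeries.X : Fin d → S)) := by
    rw [Groth.Agent.Ega41.PowComplete.mem_span_X_iff]
    simp
  have h2 : ∀ g : S →ₐ[k] k, (∀ i, g (MvPowerSeries.X i) = 0) → g s = MvPowerSeries.constantCoeff s := by
    intro g hg
    have h3 : Ideal.span (Set.range (MvPowerSeries.X : Fin d → S)) ≤ RingHom.ker g := by
      rw [Ideal.span_le]
      rintro _ ⟨i, rfl⟩
      exact hg i
    have h4 : g (s - MvPowerSeries.C (MvPowerSeries.constantCoeff s)) = 0 := h3 h1
    rw [map_sub, sub_eq_zero] at h4
    rw [h4]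
    exact g.commutes _
  rw [h2 _ hX, h2 _ resS_X]

variable (d) in
theorem isSmoothFunctor (resS : S →ₐ[k] k) : IsSmoothFunctor (hR S resS) := by
  intro B A μ hμ φ
  change HomSet S resS A at φ
  have hm : ∀ i, ∃ b ∈ IsLocalRing.maximalIdeal B, μ b = φ.1 (MvPowerSeries.X i) := by
    intro i
    obtain ⟨b, hb⟩ := hμ (φ.1 (MvPowerSeries.X i))
    refine ⟨b, ?_, hb⟩
    rw [← K723.SmallExt.mem_maximalIdeal_of_surjective_iff μ, hb]
    exact K723.Conormal.map_mem φ (RingHom.mem_ker.2 (resS_X i))
  choose b hb hb' using hm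
  obtain ⟨f, hf⟩ := exists_homSet (resS := resS) b hb
  refine ⟨f, ?_⟩
  change HomSet.map μ f = φ
  apply homSet_ext
  intro i
  change μ (f.1 (MvPowerSeries.X i)) = _
  rw [hf, hb']

end K723.PowSmooth
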