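import Groth.Prelude.Def_ArtFun3
import Groth.Prelude.Def_ArtFun5
import Groth.Agent.ArtFun.K723.PowSmooth
import Groth.Agent.ArtFun.K723.Transport
import Groth.Agent.CalgB.CohenPres
import Mathlib.RingTheory.Smooth.Field

/-! Presentations of coefficient rings over a field as quotients of power series rings. -/

set_option autoImplicit false
universe u v w
open CategoryTheory ArtFun ArtFun.Art
open scoped TensorProduct

namespace K723.Pres

variable {k : Type u} [Field k]

section Map

variable {K : Type u} [Field K] [Algebra k K] (hK : Function.Bijective (algebraMap k K)) (d : ℕ)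

noncomputable def mapHom : MvPowerSeries (Fin d) k →ₐ[k] MvPowerSeries (Fin d) K :=
  MvPowerSeries.mapAlgHom (Algebra.ofId k K)

include hK in
theorem mapHom_bijective : Function.Bijective (mapHom (K := K) (k := k) d) := by
  constructor
  · intro f g h
    ext n
    have := congrArg (MvPowerSeries.coeff n) h
    change MvPowerSeries.coeff n (MvPowerSeries.map _ f) = MvPowerSeries.coeff n (MvPowerSeries.map _ g) at this
    rw [MvPowerSeries.coeff_map, MvPowerSeries.coeff_map] at this
    exact hK.1 this
  · intro g
    choose e he using hK.2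
    refine ⟨fun n => e (MvPowerSeries.coeff n g), ?_⟩
    ext n
    change MvPowerSeries.coeff n (MvPowerSeries.map _ _) = _
    rw [MvPowerSeries.coeff_map]
    exact he _

theorem map_maximalIdeal : (IsLocalRing.maximalIdeal (MvPowerSeries (Fin d) k)).map (mapHom (K := K) (k := k) d) =
    IsLocalRing.maximalIdeal (MvPowerSeries (Fin d) K) := by
  rw [Groth.Agent.CalgB.PowField.maximalIdeal_eq, Groth.Agent.CalgB.PowField.maximalIdeal_eq, Ideal.map_span,
    ← Set.range_comp]
  congr 2
  ext1 i
  exact MvPowerSeries.map_X _ _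

end Map

/-- A coefficient ring over the field `k` is a quotient of `k[[x_1, …, x_d]]`, `d` its embedding dimension, by an ideal
inside the square of the maximal ideal. -/
theorem exists_presentation (R : CRing k k) :
    ∃ Φ : MvPowerSeries (Fin (Module.finrank (IsLocalRing.ResidueField R.carrier)
        (IsLocalRing.CotangentSpace R.carrier))) k →ₐ[k] R.carrier,
      Function.Surjective Φ ∧ RingHom.ker Φ ≤ IsLocalRing.maximalIdeal _ ^ 2 := by
  haveI := R.isAdicComplete
  have hK : Function.Bijective (algebraMap k (IsLocalRing.ResidueField R.carrier)) := by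
    refine ⟨(algebraMap k (IsLocalRing.ResidueField R.carrier)).injective, fun y => ?_⟩
    obtain ⟨r, rfl⟩ := IsLocalRing.residue_surjective y
    refine ⟨R.res r, ?_⟩
    rw [IsScalarTower.algebraMap_apply k R.carrier, IsLocalRing.ResidueField.algebraMap_eq]
    have : algebraMap k R.carrier (R.res r) - r ∈ IsLocalRing.maximalIdeal R.carrier := by
      rw [CRing.mem_maximalIdeal_iff, map_sub, AlgHom.commutes]
      exact sub_self _
    rw [← sub_eq_zero, ← map_sub, IsLocalRing.residue_eq_zero_iff]
    exact this
  haveI : Algebra.FormallySmooth k (IsLocalRing.ResidueField R.carrier) :=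
    Algebra.FormallySmooth.of_equiv (AlgEquiv.ofBijective (Algebra.ofId k _) hK)
  obtain ⟨Φ, hΦ, hker, -⟩ := Groth.Agent.CalgB.CohenPres.exists_presentation (k₀ := k) (B := R.carrier)
  refine ⟨Φ.comp (mapHom _), hΦ.comp (mapHom_bijective hK _).2, ?_⟩
  intro x hx
  have h1 : mapHom _ x ∈ RingHom.ker Φ := hx
  have h2 := hker h1
  rw [← map_maximalIdeal (k := k), ← Ideal.map_pow] at h2
  have h3 := Ideal.comap_map_of_bijective (mapHom (K := IsLocalRing.ResidueField R.carrier) (k := k)
    (Module.finrank (IsLocalRing.ResidueField R.carrier) (IsLocalRing.CotangentSpace R.carrier)))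
    (mapHom_bijective hK _) (I := IsLocalRing.maximalIdeal _ ^ 2)
  rw [← h3]
  exact h2

/-- Finite dimensionality of the conormal space. -/
theorem finite_conormal {P : Type u} [CommRing P] [Algebra k P] [IsNoetherianRing P] (resP : P →ₐ[k] k) (J n : Ideal P)
    (hn : RingHom.ker resP ≤ n) : Module.Finite k (J ⧸ (n • (⊤ : Submodule P J))) := by
  haveI : Module.Finite P (J ⧸ (n • (⊤ : Submodule P J))) := inferInstance
  obtain ⟨s, hs⟩ := (Module.Finite.fg_top : (⊤ : Submodule P (J ⧸ (n • (⊤ : Submodule P J)))).FG)
  refine ⟨⟨s, ?_⟩⟩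
  rw [eq_top_iff]
  rintro x -
  have hx : x ∈ Submodule.span P (s : Set (J ⧸ (n • (⊤ : Submodule P J)))) := by rw [hs]; trivial
  refine Submodule.span_induction (p := fun x _ => x ∈ Submodule.span k (s : Set (J ⧸ (n • (⊤ : Submodule P J)))))
    (fun x hx => Submodule.subset_span hx) (Submodule.zero_mem _) (fun x y _ _ hx hy => Submodule.add_mem _ hx hy)
    ?_ hx
  intro a x _ hx
  have h1 : (a - algebraMap k P (resP a)) • x = 0 := by
    obtain ⟨x, rfl⟩ := Submodule.Quotient.mk_surjective _ x
    rw [← Submodule.Quotient.mk_smul, Submodule.Quotient.mk_eq_zero]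
    refine Submodule.smul_mem_smul (hn ?_) trivial
    rw [RingHom.mem_ker, map_sub, AlgHom.commutes]
    exact sub_self _
  rw [sub_smul, sub_eq_zero] at h1
  rw [h1, algebraMap_smul]
  exact Submodule.smul_mem _ _ hx

/-- A coefficient ring over a field has an obstruction theory with values in a finite dimensional space. -/
theorem exists_hasObsTheory_hR (R : CRing k k) : ∃ n : ℕ, HasObsTheory (hR R.carrier R.res) (Fin n → k) := by
  obtain ⟨Φ, hΦ, hker⟩ := exists_presentation R
  generalize Module.finrank (IsLocalRing.ResidueField R.carrier) (IsLocalRing.CotangentSpace R.carrier) = d at Φ hΦ hker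
  set J := RingHom.ker Φ with hJ
  let e : (MvPowerSeries (Fin d) k ⧸ J) ≃ₐ[k] R.carrier := Ideal.quotientKerAlgEquivOfSurjective hΦ
  let res' : (MvPowerSeries (Fin d) k ⧸ J) →ₐ[k] k := R.res.comp e.toAlgHom
  have h := K723.PowSmooth.ker_resS (K723.Conormal.resP J res')
  obtain ⟨T⟩ := K723.Conormal.hasObsTheory J res' _ h.ge (by rw [h]; exact hker)
    (K723.PowSmooth.isSmoothFunctor _ _)
  haveI : Module.Finite k (J ⧸ (IsLocalRing.maximalIdeal (MvPowerSeries (Fin d) k) •
      (⊤ : Submodule (MvPowerSeries (Fin d) k) J))) :=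
    finite_conormal (K723.Conormal.resP J res') J _ h.le
  let b := Module.finBasis k (Module.Dual k (J ⧸ (IsLocalRing.maximalIdeal (MvPowerSeries (Fin d) k) •
      (⊤ : Submodule (MvPowerSeries (Fin d) k) J))))
  obtain ⟨T'⟩ := K723.Transport.hasObsTheory_of_linearEquiv b.equivFun T
  refine ⟨_, K723.Transport.hasObsTheory_hR_of_algEquiv e.symm ?_ T'⟩
  apply AlgHom.ext
  intro x
  change R.res (e (e.symm x)) = R.res x
  rw [AlgEquiv.apply_symm_apply]

end K723.Pres
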