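import Groth.Prelude.Def_ArtFun5
import Mathlib.LinearAlgebra.Basis.VectorSpace
import Groth.Agent.ArtFun.K723.Formal

/-! Elementary facts on versal, miniversal and universal families. -/

set_option autoImplicit false
universe u v
open CategoryTheory ArtFun ArtFun.Art

namespace K723.Versal

variable {Λ : Type u} {k : Type u} [CommRing Λ] [Field k] [Algebra Λ k]

/-- Maps into a fibre product. -/
theorem exists_fibLift {R : Type u} [CommRing R] [Algebra Λ R] {resR : R →ₐ[Λ] k} {B A A' A'' : Art Λ k}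
    {p' : B ⟶ A'} {p'' : B ⟶ A''} {f' : A' ⟶ A} {f'' : A'' ⟶ A} (h : IsFibreProd p' p'' f' f'')
    (φ' : HomSet R resR A') (φ'' : HomSet R resR A'') (e : HomSet.map f' φ' = HomSet.map f'' φ'') :
    ∃ φ : HomSet R resR B, HomSet.map p' φ = φ' ∧ HomSet.map p'' φ = φ'' := by
  have hex : ∀ r : R, ∃ b : B, p' b = φ'.1 r ∧ p'' b = φ''.1 r := fun r =>
    h.surj (φ'.1 r) (φ''.1 r) (DFunLike.congr_fun (congrArg Subtype.val e) r)
  choose g hg' hg'' using hex
  let G : R →ₐ[Λ] B :=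
    { toFun := g
      map_one' := h.inj _ _ (by rw [hg', map_one, map_one]) (by rw [hg'', map_one, map_one])
      map_mul' := fun a b => h.inj _ _ (by rw [hg', map_mul, map_mul, hg', hg'])
        (by rw [hg'', map_mul, map_mul, hg'', hg''])
      map_zero' := h.inj _ _ (by rw [hg', map_zero, map_zero]) (by rw [hg'', map_zero, map_zero])
      map_add' := fun a b => h.inj _ _ (by rw [hg', map_add, map_add, hg', hg'])
        (by rw [hg'', map_add, map_add, hg'', hg''])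
      commutes' := fun l => h.inj _ _ (by rw [hg', AlgHom.commutes, AlgHom.commutes])
        (by rw [hg'', AlgHom.commutes, AlgHom.commutes]) }
  have h1 : p'.toAlgHom.comp G = φ'.1 := AlgHom.ext hg'
  have h2 : p''.toAlgHom.comp G = φ''.1 := AlgHom.ext hg''
  refine ⟨⟨G, ?_⟩, Subtype.ext h1, Subtype.ext h2⟩
  rw [← p'.res_comp, AlgHom.comp_assoc, h1, φ'.2]

theorem hom_ext_fib {R : Type u} [CommRing R] [Algebra Λ R] {resR : R →ₐ[Λ] k} {B A A' A'' : Art Λ k}
    {p' : B ⟶ A'} {p'' : B ⟶ A''} {f' : A' ⟶ A} {f'' : A'' ⟶ A} (h : IsFibreProd p' p'' f' f'')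
    {φ ψ : HomSet R resR B} (h' : HomSet.map p' φ = HomSet.map p' ψ)
    (h'' : HomSet.map p'' φ = HomSet.map p'' ψ) : φ = ψ :=
  Subtype.ext (AlgHom.ext fun r => h.inj _ _ (DFunLike.congr_fun (congrArg Subtype.val h') r)
    (DFunLike.congr_fun (congrArg Subtype.val h'') r))

theorem toBase_surjective (A : Art Λ k) : Function.Surjective (toBase A) := A.res_surjective

instance subsingleton_homSet_base {R : Type u} [CommRing R] [Algebra Λ R] {resR : R →ₐ[Λ] k} :
    Subsingleton (HomSet R resR (base Λ k)) := by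
  refine ⟨fun a b => Subtype.ext ?_⟩
  have ha : a.1 = resR := a.2
  have hb : b.1 = resR := b.2
  rw [ha, hb]

section

variable {F : Art Λ k ⥤ Type v} {R : Type u} [CommRing R] [Algebra Λ R] {resR : R →ₐ[Λ] k}
  (ξ : Family R resR F)

theorem h0_of_surjective (hsurj : ∀ A : Art Λ k, Function.Surjective (ξ.app A)) : H0 F := by
  refine ⟨⟨ξ.app _ ⟨resR, rfl⟩⟩, ⟨fun a b => ?_⟩⟩
  obtain ⟨φ, rfl⟩ := hsurj _ a
  obtain ⟨ψ, rfl⟩ := hsurj _ b
  rw [Subsingleton.elim φ ψ]

theorem s1_of_isVersal (hξ : IsVersal ξ) (hsurj : ∀ A : Art Λ k, Function.Surjective (ξ.app A)) : S1 F := by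
  intro B A A' A'' p' p'' f' f'' h hf'' x
  obtain ⟨⟨x', x''⟩, hx⟩ := x
  obtain ⟨φ', rfl⟩ := hsurj _ x'
  have hx' : F.map f'' x'' = ξ.app A (HomSet.map f' φ') := by
    rw [ξ.natural]; exact hx.symm
  obtain ⟨φ'', h1, h2⟩ := hξ f'' hf'' (HomSet.map f' φ') x'' hx'
  obtain ⟨φ, h3, h4⟩ := exists_fibLift h φ' φ'' h1.symm
  refine ⟨ξ.app B φ, FibProd.ext ?_ ?_⟩
  · change F.map p' (ξ.app B φ) = ξ.app A' φ'
    rw [← ξ.natural, h3]
  · change F.map p'' (ξ.app B φ) = x''
    rw [← ξ.natural, h4, h2]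

theorem heps_of_isMiniversal (hξ : IsMiniversal ξ) (hsurj : ∀ A : Art Λ k, Function.Surjective (ξ.app A)) :
    Heps F := by
  intro B A' p' p'' h
  refine ⟨?_, s1_of_isVersal ξ hξ.1 hsurj p' p'' _ _ h (toBase_surjective _)⟩
  intro y₁ y₂ hy
  have e₁ : F.map p' y₁ = F.map p' y₂ := congrArg (fun t => t.1.1) hy
  have e₂ : F.map p'' y₁ = F.map p'' y₂ := congrArg (fun t => t.1.2) hy
  have hp' : Function.Surjective p' := by
    intro a
    obtain ⟨c, hc⟩ := (dual Λ k).res_surjective (A'.res a)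
    obtain ⟨b, hb, _⟩ := h.surj a c hc.symm
    exact ⟨b, hb⟩
  obtain ⟨ψ₁, rfl⟩ := hsurj _ y₁
  obtain ⟨ψ₂, h1, rfl⟩ := hξ.1 p' hp' (HomSet.map p' ψ₁) y₂ (by rw [← e₁, ξ.natural])
  rw [← ξ.natural, ← ξ.natural] at e₂
  rw [hom_ext_fib h h1.symm (hξ.2.1 e₂)]

end

section Formal

variable {F : Art Λ k ⥤ Type v}

theorem eq_of_isUniversal (R : CRing Λ k) (ξ : Family R.carrier R.res F) (hξ : IsUniversal ξ)
    (S : CRing Λ k) (g₁ g₂ : R.carrier →ₐ[Λ] S.carrier)
    (hg₁ : S.res.comp g₁ = R.res) (hg₂ : S.res.comp g₂ = R.res)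
    (h : (ξ.along g₁ hg₁).toFormalElt = (ξ.along g₂ hg₂).toFormalElt) : g₁ = g₂ := by
  apply K723.Formal.hom_ext_trunc S
  intro n
  have h1 : (ξ.along g₁ hg₁).app _ (S.truncHom n) = (ξ.along g₂ hg₂).app _ (S.truncHom n) :=
    congrArg (fun t => t.elt n) h
  exact congrArg Subtype.val ((hξ (S.trunc n)).1 h1)

theorem exists_along_eq_push {F₁ F₂ : Art Λ k ⥤ Type v} (f : F₁ ⟶ F₂)
    (R₁ : CRing Λ k) (ξ₁ : Family R₁.carrier R₁.res F₁)
    (R₂ : CRing Λ k) (ξ₂ : Family R₂.carrier R₂.res F₂) (hξ₂ : IsVersal ξ₂)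
    (hsurj : ∀ A : Art Λ k, Function.Surjective (ξ₂.app A)) :
    ∃ (φ : R₂.carrier →ₐ[Λ] R₁.carrier) (hφ : R₁.res.comp φ = R₂.res),
      ∀ (A : Art Λ k) (u : HomSet R₁.carrier R₁.res A),
        (ξ₂.along φ hφ).app A u = f.app A (ξ₁.app A u) := by
  -- the sequence of compatible maps to the truncations
  have step : ∀ (n : ℕ) (φ : HomSet R₂.carrier R₂.res (R₁.trunc n)),
      ξ₂.app _ φ = f.app _ (ξ₁.app _ (R₁.truncHom n)) →
      ∃ ψ : HomSet R₂.carrier R₂.res (R₁.trunc (n + 1)), HomSet.map (R₁.truncMap n) ψ = φ ∧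
        ξ₂.app _ ψ = f.app _ (ξ₁.app _ (R₁.truncHom (n + 1))) := by
    intro n φ hφ
    refine hξ₂ (R₁.truncMap n) ?_ φ _ ?_
    · intro x
      obtain ⟨a, rfl⟩ := Ideal.Quotient.mk_surjective x
      exact ⟨Ideal.Quotient.mk _ a, rfl⟩
    · have h1 : ξ₁.app _ (R₁.truncHom n) = F₁.map (R₁.truncMap n) (ξ₁.app _ (R₁.truncHom (n + 1))) := by
        rw [← ξ₁.natural, CRing.truncMap_truncHom]
      rw [hφ, h1]
      exact (NatTrans.naturality_apply f (R₁.truncMap n) _).symm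
  obtain ⟨φ₀, hφ₀⟩ := hsurj (R₁.trunc 0) (f.app _ (ξ₁.app _ (R₁.truncHom 0)))
  let T : ℕ → Type u := fun n => {φ : HomSet R₂.carrier R₂.res (R₁.trunc n) //
      ξ₂.app _ φ = f.app _ (ξ₁.app _ (R₁.truncHom n))}
  let seq : ∀ n, T n := fun n => Nat.rec (motive := T) ⟨φ₀, hφ₀⟩
    (fun n φ => ⟨(step n φ.1 φ.2).choose, (step n φ.1 φ.2).choose_spec.2⟩) n
  have hseq : ∀ n, HomSet.map (R₁.truncMap n) (seq (n + 1)).1 = (seq n).1 := fun n =>
    (step n (seq n).1 (seq n).2).choose_spec.1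
  obtain ⟨φ, hφ, hφn⟩ := K723.Formal.exists_glue R₁ (fun n => (seq n).1) hseq
  refine ⟨φ, hφ, ?_⟩
  intro A u
  obtain ⟨n, g, rfl⟩ := K723.Formal.exists_factor R₁ A u
  rw [Family.natural, Family.natural]
  rw [show f.app A (F₁.map g (ξ₁.app _ (R₁.truncHom n))) = F₂.map g (f.app _ (ξ₁.app _ (R₁.truncHom n))) from
    NatTrans.naturality_apply f g _, ← (seq n).2]
  congr 1
  change ξ₂.app _ _ = _
  congr 1
  exact Subtype.ext (hφn n)

end Formal

section Tangent

variable {k : Type u} [Field k]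

/-- The map `C → k[ε]`, `a ↦ res a + λ(a) ε`, as an algebra map. -/
noncomputable def toDualAlg (C : Art k k) (l : C →ₗ[k] k) (h1 : l 1 = 0)
    (h2 : ∀ a ∈ IsLocalRing.maximalIdeal C, ∀ b ∈ IsLocalRing.maximalIdeal C, l (a * b) = 0) :
    C →ₐ[k] DualNumber k where
  toFun a := ((C.res a, l a) : k × k)
  map_one' := TrivSqZeroExt.ext (by change C.res 1 = 1; exact map_one _) (by change l 1 = 0; exact h1)
  map_mul' a b := by
    have hm : ∀ a : C, a - algebraMap k C (C.res a) ∈ IsLocalRing.maximalIdeal C := by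
      intro a
      rw [mem_maximalIdeal_iff, map_sub, AlgHom.commutes]
      exact sub_self _
    have hl : l (a * b) = C.res a * l b + C.res b * l a := by
      have h := h2 _ (hm a) _ (hm b)
      have e : (a - algebraMap k C (C.res a)) * (b - algebraMap k C (C.res b)) =
          a * b - C.res a • b - C.res b • a + (C.res a * C.res b) • (1 : C) := by
        rw [Algebra.smul_def, Algebra.smul_def, Algebra.smul_def, map_mul]
        ring
      rw [e, map_add, map_sub, map_sub, map_smul, map_smul, map_smul, h1, smul_zero, add_zero, sub_sub,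
        sub_eq_zero] at h
      exact h
    refine TrivSqZeroExt.ext ?_ ?_
    · change C.res (a * b) = C.res a * C.res b
      exact map_mul _ _ _
    · change l (a * b) = C.res a • l b + MulOpposite.op (C.res b) • l a
      rw [hl, op_smul_eq_smul, smul_eq_mul, smul_eq_mul]
  map_zero' := TrivSqZeroExt.ext (by change C.res 0 = 0; exact map_zero _) (by change l 0 = 0; exact map_zero _)
  map_add' a b := TrivSqZeroExt.ext (by change C.res (a + b) = C.res a + C.res b; exact map_add _ _ _)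
    (by change l (a + b) = l a + l b; exact map_add _ _ _)
  commutes' c := TrivSqZeroExt.ext (by change C.res (algebraMap k C c) = c; exact C.res.commutes c) (by
    change l (algebraMap k C c) = 0
    rw [Algebra.algebraMap_eq_smul_one, map_smul, h1, smul_zero])

/-- The map `C → k[ε]`, `a ↦ res a + λ(a) ε`, for a linear functional `λ` killing `1` and `m_C²`. -/
noncomputable def toDual (C : Art k k) (l : C →ₗ[k] k) (h1 : l 1 = 0)
    (h2 : ∀ a ∈ IsLocalRing.maximalIdeal C, ∀ b ∈ IsLocalRing.maximalIdeal C, l (a * b) = 0) : C ⟶ dual k k :=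
  ⟨toDualAlg C l h1 h2, AlgHom.ext fun _ => rfl⟩

theorem toDual_snd (C : Art k k) (l : C →ₗ[k] k) (h1 : l 1 = 0)
    (h2 : ∀ a ∈ IsLocalRing.maximalIdeal C, ∀ b ∈ IsLocalRing.maximalIdeal C, l (a * b) = 0) (a : C) :
    TrivSqZeroExt.snd (toDual C l h1 h2 a : DualNumber k) = l a := by
  rfl

/-- If `m_C² = 0`, maps to `k[ε]` separate the points of `C` with the same residue. -/
theorem exists_toDual_ne (C : Art k k) (hC : ∀ a ∈ IsLocalRing.maximalIdeal C,
    ∀ b ∈ IsLocalRing.maximalIdeal C, a * b = 0) (c : C) (hc : c ∈ IsLocalRing.maximalIdeal C) (hc0 : c ≠ 0) :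
    ∃ g : C ⟶ dual k k, g c ≠ 0 := by
  -- a functional vanishing on `1` and not on `c`
  have hnot : c ∉ Submodule.span k {(1 : C)} := by
    intro h
    obtain ⟨s, rfl⟩ := Submodule.mem_span_singleton.1 h
    rw [mem_maximalIdeal_iff, map_smul, map_one, smul_eq_mul, mul_one] at hc
    exact hc0 (by rw [hc, zero_smul])
  obtain ⟨l, hl2, hl1⟩ := Submodule.exists_le_ker_of_notMem hnot
  have hl : l 1 = 0 := hl1 (Submodule.mem_span_singleton_self _)
  refine ⟨toDual C l hl (fun a ha b hb => by rw [hC a ha b hb, map_zero]), ?_⟩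
  intro h0
  have := toDual_snd C l hl (fun a ha b hb => by rw [hC a ha b hb, map_zero]) c
  rw [h0] at this
  exact hl2 this.symm

theorem truncHom_one_comp_eq {F : Art k k ⥤ Type v}
    (R : CRing k k) (ξ : Family R.carrier R.res F) (hξ : IsMiniversal ξ)
    (S : CRing k k) (g₁ g₂ : R.carrier →ₐ[k] S.carrier)
    (hg₁ : S.res.comp g₁ = R.res) (hg₂ : S.res.comp g₂ = R.res)
    (h : (ξ.along g₁ hg₁).toFormalElt = (ξ.along g₂ hg₂).toFormalElt) :
    (S.truncHom 1).1.comp g₁ = (S.truncHom 1).1.comp g₂ := by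
  set C := S.trunc 1 with hCdef
  have hm2 : ∀ a ∈ IsLocalRing.maximalIdeal C, ∀ b ∈ IsLocalRing.maximalIdeal C, a * b = 0 := by
    intro a ha b hb
    obtain ⟨a, rfl⟩ := Ideal.Quotient.mk_surjective (I := CRing.mpow S 1) a
    obtain ⟨b, rfl⟩ := Ideal.Quotient.mk_surjective (I := CRing.mpow S 1) b
    have ha' : a ∈ IsLocalRing.maximalIdeal S.carrier := by
      rw [CRing.mem_maximalIdeal_iff]
      exact (mem_maximalIdeal_iff C _).1 ha
    have hb' : b ∈ IsLocalRing.maximalIdeal S.carrier := by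
      rw [CRing.mem_maximalIdeal_iff]
      exact (mem_maximalIdeal_iff C _).1 hb
    change Ideal.Quotient.mk (CRing.mpow S 1) (a * b) = Ideal.Quotient.mk (CRing.mpow S 1) 0
    rw [Ideal.Quotient.eq, sub_zero, CRing.mpow, pow_two]
    exact Ideal.mul_mem_mul ha' hb'
  let φ₁ : HomSet R.carrier R.res C := ⟨(S.truncHom 1).1.comp g₁, by
    rw [← AlgHom.comp_assoc, (S.truncHom 1).2, hg₁]⟩
  let φ₂ : HomSet R.carrier R.res C := ⟨(S.truncHom 1).1.comp g₂, by
    rw [← AlgHom.comp_assoc, (S.truncHom 1).2, hg₂]⟩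
  have hφ : ξ.app C φ₁ = ξ.app C φ₂ := congrArg (fun t => t.elt 1) h
  apply AlgHom.ext
  intro r
  by_contra hne
  have hmem : φ₁.1 r - φ₂.1 r ∈ IsLocalRing.maximalIdeal C := by
    rw [mem_maximalIdeal_iff, map_sub]
    have e₁ : C.res (φ₁.1 r) = R.res r := DFunLike.congr_fun φ₁.2 r
    have e₂ : C.res (φ₂.1 r) = R.res r := DFunLike.congr_fun φ₂.2 r
    rw [e₁, e₂, sub_self]
  obtain ⟨g, hg⟩ := exists_toDual_ne C hm2 _ hmem (sub_ne_zero.2 hne)
  apply hg
  have h1 : HomSet.map g φ₁ = HomSet.map g φ₂ := by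
    apply hξ.2.1
    rw [ξ.natural, ξ.natural, hφ]
  rw [map_sub, sub_eq_zero]
  exact DFunLike.congr_fun (congrArg Subtype.val h1) r

end Tangent

end K723.Versal
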